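import Cfsg.Agent.Lib.Extra.CoOneUniq.FrameModel
import Cfsg.Agent.Lib.Concrete.LeechModTwoAction
import Cfsg.Agent.Lib.Concrete.LeechSimpleGroups

/-!
# The first Conway group acts faithfully on the lattice modulo twice itself

Equalities in the group are decided on the images of the basis classes.
-/

set_option autoImplicit false
set_option maxRecDepth 100000
set_option linter.style.haveILetI false

namespace Cfsg.Lib.CoOneUniq.Local

open Cfsg Cfsg.Lib.Concrete Cfsg.Lib.CoOne

theorem code_vec {c : ℕ} (hc : c < 2 ^ 24) : code (vsum bLeech c : GolayPt → ℤ) = c := by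
  rw [code_vsum, bLeech_codes, powers_combo _ hc]

theorem fact_lt (q : Spor.Co1) {c : ℕ} (hc : c < 2 ^ 24) : fact q c < 2 ^ 24 := by
  obtain ⟨g, rfl⟩ := QuotientGroup.mk'_surjective _ q
  rw [← code_vec hc, fact_code]
  exact code_lt _

theorem fact_mul (q r : Spor.Co1) {c : ℕ} (hc : c < 2 ^ 24) : fact (q * r) c = fact q (fact r c) := by
  obtain ⟨g, rfl⟩ := QuotientGroup.mk'_surjective _ q
  obtain ⟨h, rfl⟩ := QuotientGroup.mk'_surjective _ r
  rw [← map_mul, ← code_vec hc, fact_code, fact_code, fact_code, mul_smul]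

theorem fact_one {c : ℕ} (hc : c < 2 ^ 24) : fact 1 c = c := by
  rw [← map_one kap, ← code_vec hc, fact_code, one_smul]

theorem fact_xor (q : Spor.Co1) (a b : ℕ) : fact q (a ^^^ b) = fact q a ^^^ fact q b := by
  rw [fact, fact, fact, comboAux_xor]

theorem fact_zero (q : Spor.Co1) : fact q 0 = 0 := by
  have h := fact_xor q 0 0
  rw [Nat.xor_self, Nat.xor_self] at h
  exact h

/-- The kernel of the action on classes. -/
noncomputable def actKer : Subgroup Spor.Co1 where
  carrier := {q | ∀ c < 2 ^ 24, fact q c = c}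
  one_mem' := fun _ hc => fact_one hc
  mul_mem' := fun {a b} ha hb c hc => by rw [fact_mul _ _ hc, hb c hc, ha c hc]
  inv_mem' := fun {a} ha c hc => by
    have h := ha _ (fact_lt a⁻¹ hc)
    rw [← fact_mul _ _ hc, mul_inv_cancel, fact_one hc] at h
    exact h.symm

theorem actKer_normal : actKer.Normal := ⟨fun a ha r c hc => by
  rw [fact_mul _ _ hc, fact_mul _ _ (fact_lt _ hc), ha _ (fact_lt _ hc), ← fact_mul _ _ hc, mul_inv_cancel,
    fact_one hc]⟩

theorem xi_moves : comboAux xiImgs topCode ≠ topCode ∧ topCode < 2 ^ 24 := by decide +kernel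

theorem actKer_eq_bot : actKer = ⊥ := by
  haveI : IsSimpleGroup Spor.Co1 := (isCo1_quotient).1
  refine (actKer_normal.eq_bot_or_eq_top).resolve_right fun h => xi_moves.1 ?_
  rw [← fact_xiEl]
  exact (h ▸ Subgroup.mem_top xiEl : xiEl ∈ actKer) _ xi_moves.2

/-- The images of the basis classes. -/
noncomputable def qImgs (q : Spor.Co1) : List ℕ := bits24.map fun j => fact q (2 ^ j)

/-- The action is faithful. -/
theorem eq_of_qImgs {q r : Spor.Co1} (h : qImgs q = qImgs r) : q = r := by
  have hj : ∀ j < 24, fact q (2 ^ j) = fact r (2 ^ j) := fun j hj => List.map_inj_left.1 h j (mem_bits24.2 hj)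
  have hall : ∀ c < 2 ^ 24, fact q c = fact r c :=
    Cfsg.Lib.CoOneLocal.xor_all 24 (by rw [fact_zero, fact_zero])
      (fun a b _ _ ha hb => by rw [fact_xor, fact_xor, ha, hb]) hj
  have hk : r⁻¹ * q ∈ actKer := fun c hc => by
    rw [fact_mul _ _ hc, hall c hc, ← fact_mul _ _ hc, inv_mul_cancel, fact_one hc]
  rw [actKer_eq_bot, Subgroup.mem_bot, inv_mul_eq_one] at hk
  exact hk.symm

/-- Whether the norm of a class is a multiple of thirty-two. -/
def qSing (c : ℕ) : Bool := decide (sqNorm (vsum bLeech c : GolayPt → ℤ) % 32 = 0)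

theorem qSing_fcode (q : Spor.Co1) : qSing (fcode q) = true := by
  obtain ⟨g, rfl⟩ := QuotientGroup.mk'_surjective _ q
  rw [fcode_kap]
  set c := code ((g • top : leechLattice) : GolayPt → ℤ) with hc
  obtain ⟨z, hz, e⟩ := (code_eq_iff (Subtype.prop _) (g • top : leechLattice).2).1 (code_vec (code_lt _) : code (vsum bLeech c : GolayPt → ℤ) = c)
  have h64 : sqNorm ((g • top : leechLattice) : GolayPt → ℤ) = 64 := by
    rw [co0_sqNorm]; exact (stdCross_subset (e8_mem_stdCross none)).2
  have e' : ((g • top : leechLattice) : GolayPt → ℤ) = (vsum bLeech c : GolayPt → ℤ) + (z + z) := by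
    rw [← two_nsmul, ← e, add_sub_cancel]
  have h1 := eight_dvd_dot (vsum bLeech c).2 (add_mem hz hz)
  have h2 := sixteen_dvd_sqNorm (mem_leechLattice_iff.1 hz)
  have h3 : dotInt (vsum bLeech c : GolayPt → ℤ) (z + z) = 2 * dotInt (vsum bLeech c : GolayPt → ℤ) z := by
    simp only [dotInt, Pi.add_apply, Finset.mul_sum]
    exact Finset.sum_congr rfl fun i _ => by ring
  have h4 : sqNorm (z + z) = 4 * sqNorm z := by
    simp only [sqNorm, Pi.add_apply, Finset.mul_sum]
    exact Finset.sum_congr rfl fun i _ => by ring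
  have h5 := eight_dvd_dot (vsum bLeech c).2 hz
  rw [e', sqNorm_add, h3, h4] at h64
  simp only [qSing, decide_eq_true_eq]
  omega

end Cfsg.Lib.CoOneUniq.Local
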