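import Cfsg.Agent.Lib.Extra.CoOneUniq.Local.NineChecks

/-!
# The centralizer of the element of order three has order at most `3 * 181440`

Its orbit on frames lies in the singular classes fixed by the element, and the stabiliser of the
standard frame is monomial.
-/

set_option autoImplicit false
set_option maxRecDepth 100000
set_option linter.style.haveILetI false

namespace Cfsg.Lib.CoOneUniq.Local

open Cfsg Cfsg.Lib.Concrete Cfsg.Lib.CoOne
open scoped Pointwise symmDiff

/-- The element of order three. -/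
noncomputable def xNine : Spor.Co1 := wEl nineLetters [1]

theorem toFinset_card_le_of {L : List ℕ} {n : ℕ} (h : L.length ≤ n) : L.toFinset.card ≤ n :=
  (List.toFinset_card_le L).trans h

theorem card_le_of_fibres {G β : Type*} [Group G] [Finite G] (H K : Subgroup G) (f : G → β) (F : Finset β)
    (hF : ∀ g ∈ H, f g ∈ F) (hK : ∀ a ∈ H, ∀ b ∈ H, f a = f b → a⁻¹ * b ∈ K) :
    Nat.card H ≤ F.card * Nat.card ↥(H ⊓ K) := by
  classical
  have hr : ∀ g : H, ∃ a ∈ H, f a = f (g : G) := fun g => ⟨g, g.2, rfl⟩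
  let sel : ↥F → G := fun y => if h : ∃ a ∈ H, f a = y.1 then h.choose else 1
  have hsel : ∀ g : H, sel ⟨f g, hF g g.2⟩ ∈ H ∧ f (sel ⟨f g, hF g g.2⟩) = f g := fun g => by
    simp only [sel]
    rw [dif_pos (hr g)]
    exact (hr g).choose_spec
  let φ : H → ↥F × ↥(H ⊓ K) := fun g => (⟨f g, hF g g.2⟩,
    ⟨(sel ⟨f g, hF g g.2⟩)⁻¹ * g, H.mul_mem (H.inv_mem (hsel g).1) g.2,
      hK _ (hsel g).1 _ g.2 (hsel g).2⟩)
  have hinj : Function.Injective φ := by
    intro a b h
    simp only [φ, Prod.mk.injEq, Subtype.mk.injEq] at h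
    have e : sel ⟨f a, hF a a.2⟩ = sel ⟨f b, hF b b.2⟩ := congrArg sel (Subtype.ext h.1)
    have h2 : (sel ⟨f a, hF a a.2⟩)⁻¹ * (a : G) = (sel ⟨f b, hF b b.2⟩)⁻¹ * (b : G) := congrArg Subtype.val h.2
    rw [e] at h2
    exact Subtype.ext (mul_left_cancel h2)
  refine (Nat.card_le_card_of_injective φ hinj).trans ?_
  rw [Nat.card_prod, Nat.card_eq_fintype_card, Fintype.card_coe]

/-! ### The centralizer in M24 -/

/-- The centralizer of the permutation. -/
noncomputable def centM (ξ : Equiv.Perm GolayPt) : Subgroup (Equiv.Perm GolayPt) :=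
  M24 ⊓ Subgroup.centralizer {ξ}

/-- The stabiliser of the first base point. -/
noncomputable def fixPt : Subgroup (Equiv.Perm GolayPt) := MulAction.stabilizer _ (bp 0)

theorem card_centM {ξ : Equiv.Perm GolayPt} (hξ : Rep ξ xPerm) : Nat.card (centM ξ) ≤ 504 := by
  classical
  refine (card_le_of_fibres (centM ξ) fixPt (fun σ => σ (bp 0)) Finset.univ (fun _ _ => Finset.mem_univ _)
    fun a _ b _ h => ?_).trans ?_
  · show (a⁻¹ * b) (bp 0) = bp 0
    rw [Equiv.Perm.mul_apply, ← h, ← Equiv.Perm.mul_apply, inv_mul_cancel]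
    rfl
  rw [Finset.card_univ, show Fintype.card GolayPt = 24 from rfl]
  refine (Nat.mul_le_mul_left 24 (?_ : _ ≤ 21)).trans (by norm_num)
  have hsr : ∀ g : ↥(centM ξ ⊓ fixPt), ∃ r ∈ searchAux 1 0 xPerm xPerm ninePlan 0 0, Rep (g : Equiv.Perm GolayPt) r := by
    intro g
    obtain ⟨⟨hg, hc⟩, hf⟩ := g.2
    refine search_complete (by norm_num) hξ hξ (mem_mSub.2 ⟨hg, fun j hj => ?_, ?_⟩)
      (Subgroup.mem_centralizer_singleton_iff.1 hc) ninePlan plan_ok.1
    · rw [show j = 0 by omega]; exact hf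
    · rw [mset_zero]; exact Finset.smul_finset_empty (g : Equiv.Perm GolayPt)
  choose r hr hrep using hsr
  refine (Nat.card_le_card_of_injective
    (fun g => (⟨r g, List.mem_toFinset.2 (hr g)⟩ : ↥(searchAux 1 0 xPerm xPerm ninePlan 0 0).toFinset))
    fun a b h => ?_).trans ?_
  · have e : r a = r b := congrArg Subtype.val h
    exact Subtype.ext ((hrep a).ext (e ▸ hrep b))
  · rw [Nat.card_eq_fintype_card, Fintype.card_coe]
    exact toFinset_card_le_of plan_ok.2

/-! ### The monomial part -/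

theorem xNine_kq : ∃ (ξ : Equiv.Perm GolayPt) (hξ : ξ ∈ M24), Rep ξ xPerm ∧
    xNine = kq ξ hξ ∅ empty_mem_codeSets := by
  have ht := nine_tab
  simp only [tabOK, tabAt, Bool.and_eq_true, List.all_eq_true, List.mem_range] at ht
  have h := (ht.2 0 fixWords_len.2.2).1
  have hx : xNine = monoEl (nineLetters.getD 0 (0, 0, 0)).1 (nineLetters.getD 0 (0, 0, 0)).2.1
      (nineLetters.getD 0 (0, 0, 0)).2.2 := mul_one _
  refine ⟨(okMono_spec h).choose, (okMono_spec h).choose_spec.choose, fun x => ?_, ?_⟩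
  · rw [(okMono_spec h).choose_spec.choose_spec.choose_spec.2.1 x, pFn, gidx_gpt]
    have hlt : pget (nineLetters.getD 0 (0, 0, 0)).1 (gidx x).val < 24 := by
      simp only [okMono, Bool.and_eq_true] at h
      have := List.all_eq_true.1 h.1.2 _ (mem_bits24.2 (gidx x).isLt)
      simp only [Bool.and_eq_true, decide_eq_true_eq] at this
      exact this.1.1.1
    exact Nat.mod_eq_of_lt hlt
  · rw [hx, monoEl, dif_pos h]
    exact kq_congr _ _ _ _ rfl (by rw [fixWords_len.2.1]; exact mset_zero)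

theorem card_mono_part : Nat.card ↥(Subgroup.centralizer ({xNine} : Set Spor.Co1) ⊓ N1) ≤ 4032 := by
  classical
  obtain ⟨ξ, hξ, hrep, hx⟩ := xNine_kq
  have henc : Enc xNine (pk ξ, 0) := by
    have h := enc_kq hξ (show 0 < 2 ^ 24 by norm_num) (by rw [mset_zero]; exact empty_mem_codeSets)
    rw [kq_congr (d := ∅) _ hξ _ empty_mem_codeSets rfl mset_zero, ← hx,
      show nrm 0 = 0 by decide +kernel] at h
    exact h
  have hdata : ∀ q : ↥(Subgroup.centralizer ({xNine} : Set Spor.Co1) ⊓ N1),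
      ∃ σ : ↥(centM ξ), ∃ m ∈ fixWords, Enc (q : Spor.Co1) (pk (σ : Equiv.Perm GolayPt), m) := by
    intro q
    obtain ⟨hc, g, hg, hgq⟩ := q.2
    obtain ⟨c, hc', hgc⟩ := crossPerm_spec ⟨g, hg⟩
    have hgm : g = monoCo0 (crossPerm ⟨g, hg⟩).1 (crossPerm ⟨g, hg⟩).2 c hc' := co0_ext fun i => Subtype.ext (by
      rw [hgc, monoCo0_smul])
    obtain ⟨m, hm, rfl, he⟩ := exists_enc (crossPerm ⟨g, hg⟩).2 hc'
    have hq : (q : Spor.Co1) = kq (crossPerm ⟨g, hg⟩).1 (crossPerm ⟨g, hg⟩).2 (mset m) hc' := by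
      rw [kq, ← hgm, hgq]
    rw [← hq] at he
    obtain ⟨σ, hσ, hcode, -, hσp, hlt, h23⟩ := id he
    have e := (he.commute henc).1 (Subgroup.mem_centralizer_singleton_iff.1 hc)
    have e1 := congrArg Prod.fst e
    have e2 := congrArg Prod.snd e
    simp only [emul, ← pk_mul] at e1 e2
    have hs : (crossPerm ⟨g, hg⟩).1 * ξ = ξ * (crossPerm ⟨g, hg⟩).1 := pk_inj e1
    refine ⟨⟨(crossPerm ⟨g, hg⟩).1, (crossPerm ⟨g, hg⟩).2, Subgroup.mem_centralizer_singleton_iff.2 hs⟩,
      nrm m, ?_, he⟩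
    have hz : ∀ p, pimg p 0 = 0 := fun p => by
      refine Nat.eq_of_testBit_eq fun j => ?_
      rw [Nat.zero_testBit, Bool.eq_false_iff]
      intro h
      rw [pimg, testBit_orMask] at h
      obtain ⟨i, -, h', -⟩ := h
      simp at h'
    have hpk : pimg (pk ξ) (nrm m) = pimg xPerm (nrm m) := by
      refine mset_inj (pimg_lt (rep_pk ξ) _) (pimg_lt hrep _) ?_
      rw [← (rep_pk ξ).smul_mset, ← hrep.smul_mset]
    rw [hz, Nat.xor_zero, Nat.zero_xor, hpk] at e2
    simp only [fixWords, List.mem_filter, Bool.and_eq_true, Bool.not_eq_true', Nat.beq_eq]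
    exact ⟨(mset_mem_supports_iff_mem hlt).1 hcode, h23, e2.symm⟩
  choose σ m hm he using hdata
  refine (Nat.card_le_card_of_injective
    (fun q => (σ q, (⟨m q, List.mem_toFinset.2 (hm q)⟩ : ↥fixWords.toFinset))) fun a b h => ?_).trans ?_
  · simp only [Prod.mk.injEq] at h
    have h2 : m a = m b := congrArg Subtype.val h.2
    exact Subtype.ext (Enc.eq (he a) (by rw [h.1, h2]; exact he b))
  · rw [Nat.card_prod, Nat.card_eq_fintype_card (α := ↥fixWords.toFinset), Fintype.card_coe]
    exact (Nat.mul_le_mul (card_centM hrep) (toFinset_card_le_of fixWords_len.1)).trans (by norm_num)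

/-! ### The frames -/

theorem combo_mem_fix : ∀ (L : List ℕ), (∀ a ∈ L, a ∈ projImgs) → ∀ c, ∀ b ∈ nineFix,
    b ^^^ comboAux L c ∈ nineFix
  | [], _, _, b, hb => by rw [comboAux, Nat.xor_zero]; exact hb
  | a :: L, hL, c, b, hb => by
    rw [comboAux, ← Nat.xor_assoc]
    refine combo_mem_fix L (fun x hx => hL x (List.mem_cons_of_mem _ hx)) _ _ ?_
    cases c % 2 == 1
    · simpa using hb
    · have h := List.all_eq_true.1 (List.all_eq_true.1 fix_checks.2.1 a (hL a List.mem_cons_self)) b hb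
      simpa using h

theorem fixed_mem {c : ℕ} (hc : c < 2 ^ 24) (hx : fact xNine c = c) : c ∈ nineFix := by
  have hgd : ∀ (w : List ℕ), wOK nineLetters w = true → ∀ j < 24,
      (wImgs nineTab w).getD j 0 = fact (wEl nineLetters w) (2 ^ j) := fun w hw j hj => by
    rw [← qImgs_wEl nine_tab w hw, qImgs, List.getD_eq_getElem _ _ (by simpa [bits24] using hj),
      List.getElem_map, ← List.getD_eq_getElem _ 0, bits24_getD _ hj]
  have hall : ∀ d < 2 ^ 24, comboAux projImgs d = d ^^^ fact xNine d ^^^ fact (wEl nineLetters [1, 1]) d := by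
    refine Cfsg.Lib.CoOneLocal.xor_all 24 ?_ (fun a b _ _ ha hb => ?_) fun j hj => ?_
    · rw [fact_zero, fact_zero]; decide +kernel
    · rw [comboAux_xor, ha, hb, fact_xor, fact_xor]; ac_rfl
    · rw [show fact xNine (2 ^ j) = (wImgs nineTab [1]).getD j 0 from (hgd _ fix_checks.2.2.2.1 j hj).symm,
        ← hgd _ fix_checks.2.2.2.2 j hj]
      exact proj_single j hj
  have h2 : fact (wEl nineLetters [1, 1]) c = c := by
    have e : wEl nineLetters [1, 1] = xNine * xNine := by
      rw [xNine, ← wEl_append]; rfl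
    rw [e, fact_mul _ _ hc, hx, hx]
  have h := combo_mem_fix projImgs (fun _ h => h) c 0 (by simpa using fix_checks.1)
  rwa [Nat.zero_xor, hall c hc, hx, h2, Nat.xor_self, Nat.zero_xor] at h

theorem card_centralizer_le : Nat.card ↥(Subgroup.centralizer ({xNine} : Set Spor.Co1)) ≤ 544320 := by
  haveI : Finite Co0 := finite_Co0
  refine (card_le_of_fibres _ N1 fcode ((nineFix.filter fun c => !(Nat.beq c 0) && qSing c).toFinset)
    (fun q hq => ?_) fun a _ b _ h => fcode_eq_iff.1 h).trans ?_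
  · have hq' : xNine * q = q * xNine := (Subgroup.mem_centralizer_singleton_iff.1 hq).symm
    have hlt : fcode q < 2 ^ 24 := fact_lt q xi_moves.2
    obtain ⟨ξ, hξ, -, hx⟩ := xNine_kq
    have hxN : xNine ∈ N1 := hx ▸ ⟨_, mono_mem_crossStab _ _ _ _, rfl⟩
    have hxt : fcode xNine = topCode := by
      rw [← fcode_one]
      exact (fcode_eq_iff.2 (by rwa [inv_one, one_mul])).symm
    have hfix : fact xNine (fcode q) = fcode q := by
      rw [← fcode_mul, hq', fcode_mul, hxt]; rfl
    simp only [List.mem_toFinset, List.mem_filter, Bool.and_eq_true, Bool.not_eq_true']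
    refine ⟨fixed_mem hlt hfix, ?_, qSing_fcode q⟩
    refine nbeq_false fun h0 => ?_
    have := congrArg (fact q⁻¹) h0
    rw [← fcode_mul, inv_mul_cancel, fcode_one, fact_zero] at this
    exact absurd this (by decide +kernel)
  · have h := Nat.mul_le_mul (toFinset_card_le_of fix_checks.2.2.1) card_mono_part
    exact le_trans h (by norm_num)

end Cfsg.Lib.CoOneUniq.Local
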