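import Cfsg.Agent.Lib.Extra.CoOneUniq.Local.NineHom
import Cfsg.Agent.Lib.Extra.CoOneUniq.Local.NineBound
import Cfsg.Agent.Lib.Perm.WindowTypes

/-!
# A subgroup of order three of the first Conway group with normalizer `S₃ × A₉`
-/

set_option autoImplicit false
set_option maxRecDepth 100000
set_option linter.style.haveILetI false

namespace Cfsg.Lib.CoOneUniq.Local

open Cfsg Cfsg.Lib.Concrete Cfsg.Lib.CoOne

/-- Nine points. -/
abbrev Nine := Fin 7 ⊕ Bool

theorem nine_card : Fintype.card Nine = 9 := by simp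

theorem exists_nine : ∃ W : Subgroup Spor.Co1, Nat.card W = 3 ∧
    Nonempty (↥(Subgroup.normalizer (W : Set Spor.Co1)) ≃* Equiv.Perm (Fin 3) × alternatingGroup (Fin 9)) := by
  classical
  haveI : Finite Co0 := finite_Co0
  obtain ⟨ψ, hψ, hr⟩ := Cfsg.Lib.PresSymAlt.carmichael carRel_tW
  haveI : IsSimpleGroup ↥(alternatingGroup Nine) := alternatingGroup.isSimpleGroup (by simp)
  haveI : Nontrivial Nine := ⟨⟨.inr false, .inr true, by simp⟩⟩
  have hψinj : Function.Injective ψ := by
    rw [← MonoidHom.ker_eq_bot_iff]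
    refine ψ.normal_ker.eq_bot_or_eq_top.resolve_right fun h => tW_ne ?_
    rw [← hψ 0]
    exact MonoidHom.mem_ker.1 (h ▸ Subgroup.mem_top _)
  have hcom : ∀ a, Commute (ψ a) xW ∧ Commute (ψ a) sW := fun a => by
    have h : ψ.range ≤ Subgroup.centralizer {xW, sW} := hr.trans ((Subgroup.closure_le _).2 (by
      rintro _ ⟨i, rfl⟩
      refine Subgroup.mem_centralizer_iff.2 fun y hy => ?_
      rcases hy with rfl | rfl
      exacts [(tW_facts i).2.1.eq.symm, (tW_facts i).2.2.eq.symm]))
    have h' := Subgroup.mem_centralizer_iff.1 (h ⟨a, rfl⟩)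
    exact ⟨(h' xW (by simp)).symm, (h' sW (by simp)).symm⟩
  have hord : orderOf xW = 3 := orderOf_eq_prime xW_cube xW_ne
  have hsinv : sW * xW * sW⁻¹ = xW⁻¹ := by rw [sW_inv, mul_inv_cancel_right]
  have hsnot : sW ∉ Subgroup.zpowers xW := by
    intro h
    obtain ⟨k, hk⟩ := Subgroup.mem_zpowers_iff.1 h
    have hc : Commute sW xW := hk ▸ (Commute.refl xW).zpow_left k
    have e : xW = xW⁻¹ := by
      have := hsinv
      rwa [hc.eq, mul_inv_cancel_right] at this
    have h2 : xW ^ 2 = 1 := by rw [pow_two]; exact mul_eq_one_iff_eq_inv.2 e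
    have := orderOf_dvd_of_pow_eq_one h2
    rw [hord] at this
    omega
  obtain ⟨eD⟩ := Cfsg.Lib.TwoGroup.equiv_dihedral sW_sq hsinv hsnot
  rw [hord] at eD
  obtain ⟨e3⟩ := Cfsg.Lib.Perm.Window.dihedral_three_equiv
  set D := Subgroup.closure ({xW, sW} : Set Spor.Co1) with hD
  have hDc : ∀ d ∈ D, ∀ a, Commute d (ψ a) := fun d hd a => by
    have h : D ≤ Subgroup.centralizer {ψ a} := (Subgroup.closure_le _).2 (by
      rintro y (rfl | rfl) <;> refine Subgroup.mem_centralizer_singleton_iff.2 ?_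
      exacts [(hcom a).1.eq.symm, (hcom a).2.eq.symm])
    exact Subgroup.mem_centralizer_singleton_iff.1 (h hd)
  let φ : ↥D × ↥(alternatingGroup Nine) →* Spor.Co1 :=
    MonoidHom.noncommCoprod D.subtype ψ (fun d a => hDc d d.2 a)
  have hφ : ∀ d a, φ (d, a) = (d : Spor.Co1) * ψ a := fun d a => rfl
  have hφinj : Function.Injective φ := by
    rw [← MonoidHom.ker_eq_bot_iff, Subgroup.eq_bot_iff_forall]
    rintro ⟨d, a⟩ h
    rw [MonoidHom.mem_ker, hφ] at h
    have ha : a ∈ Subgroup.center ↥(alternatingGroup Nine) := Subgroup.mem_center_iff.2 fun b => hψinj (by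
      rw [map_mul, map_mul, eq_inv_of_mul_eq_one_right h]
      exact ((hDc d d.2 b).inv_left.symm).eq)
    have hcen : Subgroup.center ↥(alternatingGroup Nine) = ⊥ :=
      (inferInstance : (Subgroup.center ↥(alternatingGroup Nine)).Normal).eq_bot_or_eq_top.resolve_right fun e => by
        have h01 := Subgroup.mem_center_iff.1 (e ▸ Subgroup.mem_top
          (⟨Cfsg.Lib.PresSymAlt.tri (0 : Fin 7), Cfsg.Lib.PresSymAlt.tri_mem _⟩ : ↥(alternatingGroup Nine)))
          ⟨Cfsg.Lib.PresSymAlt.tri (1 : Fin 7), Cfsg.Lib.PresSymAlt.tri_mem _⟩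
        revert h01
        decide
    rw [hcen, Subgroup.mem_bot] at ha
    subst ha
    rw [map_one, mul_one] at h
    exact Prod.ext (Subtype.ext h) rfl
  have hmemx : xW ∈ D := Subgroup.subset_closure (by simp)
  have hmems : sW ∈ D := Subgroup.subset_closure (by simp)
  set C := Subgroup.centralizer ({xW} : Set Spor.Co1)
  have hcardC : Nat.card ↥C ≤ 544320 := card_centralizer_le
  have hCle : C ≤ φ.range := by
    let ι : ↥(Subgroup.zpowers xW) × ↥(alternatingGroup Nine) → ↥C := fun p =>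
      ⟨(p.1 : Spor.Co1) * ψ p.2, mul_mem (by
        obtain ⟨k, hk⟩ := Subgroup.mem_zpowers_iff.1 p.1.2
        rw [← hk]
        exact Subgroup.mem_centralizer_singleton_iff.2 ((Commute.refl xW).zpow_left k).eq)
        (Subgroup.mem_centralizer_singleton_iff.2 (hcom p.2).1.eq)⟩
    have hzD : Subgroup.zpowers xW ≤ D := Subgroup.zpowers_le.2 hmemx
    have hιinj : Function.Injective ι := fun p q h => by
      have h' : φ (⟨p.1, hzD p.1.2⟩, p.2) = φ (⟨q.1, hzD q.1.2⟩, q.2) := congrArg Subtype.val h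
      have h'' := hφinj h'
      simp only [Prod.mk.injEq, Subtype.mk.injEq] at h''
      exact Prod.ext (Subtype.ext h''.1) h''.2
    have hcard : Nat.card (↥(Subgroup.zpowers xW) × ↥(alternatingGroup Nine)) = 544320 := by
      have h2 := two_mul_card_alternatingGroup (α := Nine)
      rw [Fintype.card_perm, nine_card, show Nat.factorial 9 = 362880 by rfl] at h2
      rw [Nat.card_prod, Nat.card_zpowers, hord, Nat.card_eq_fintype_card]
      omega
    have hbij : Function.Bijective ι := (Nat.bijective_iff_injective_and_card ι).2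
      ⟨hιinj, le_antisymm (Nat.card_le_card_of_injective ι hιinj) (hcard ▸ hcardC)⟩
    intro g hg
    obtain ⟨p, hp⟩ := hbij.2 ⟨g, hg⟩
    exact ⟨(⟨p.1, hzD p.1.2⟩, p.2), congrArg Subtype.val hp⟩
  refine ⟨Subgroup.zpowers xW, by rw [Nat.card_zpowers, hord], ?_⟩
  have hrange : φ.range = Subgroup.normalizer (Subgroup.zpowers xW : Set Spor.Co1) := by
    have hn : ∀ g, g * xW * g⁻¹ = xW ∨ g * xW * g⁻¹ = xW⁻¹ →
        g ∈ Subgroup.normalizer (Subgroup.zpowers xW : Set Spor.Co1) := fun g hg => by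
      refine Subgroup.mem_normalizer_iff.2 fun y => ?_
      have hmap : (Subgroup.zpowers xW).map (MulAut.conj g).toMonoidHom = Subgroup.zpowers xW := by
        rw [MonoidHom.map_zpowers]
        rcases hg with e | e <;> simp [MulAut.conj_apply, e]
      constructor
      · intro hy
        rw [← hmap]; exact ⟨y, hy, rfl⟩
      · intro hy
        have hy' : g * y * g⁻¹ ∈ (Subgroup.zpowers xW).map (MulAut.conj g).toMonoidHom := by rwa [hmap]
        obtain ⟨z, hz, e⟩ := hy'
        exact (MulAut.conj g).injective e ▸ hz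
    refine le_antisymm ?_ ?_
    · rintro _ ⟨⟨d, a⟩, rfl⟩
      rw [hφ]
      refine mul_mem ?_ (hn _ (Or.inl (by rw [(hcom a).1.eq, mul_inv_cancel_right])))
      exact (Subgroup.closure_le _).2 (by
        rintro y (rfl | rfl)
        exacts [hn _ (Or.inl (mul_inv_cancel_right _ _)), hn _ (Or.inr hsinv)]) d.2
    · intro g hg
      have h1 : g * xW * g⁻¹ ∈ Subgroup.zpowers xW :=
        (Subgroup.mem_normalizer_iff.1 hg xW).1 (Subgroup.mem_zpowers _)
      have hfin : IsOfFinOrder xW := isOfFinOrder_of_finite _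
      obtain ⟨k, hk3, hk⟩ : ∃ k < 3, xW ^ k = g * xW * g⁻¹ := by
        obtain ⟨k, hk, e⟩ := (hfin.mem_zpowers_iff_mem_range_orderOf.1 h1 |> Finset.mem_image.1)
        exact ⟨k, hord ▸ Finset.mem_range.1 hk, e⟩
      interval_cases k
      · exact absurd (conj_eq_one_iff.1 ((pow_zero xW).symm.trans hk).symm) xW_ne
      · refine hCle (Subgroup.mem_centralizer_singleton_iff.2 ?_)
        rw [pow_one] at hk
        exact mul_inv_eq_iff_eq_mul.1 hk.symm
      · have hsx : sW * g ∈ C := by
          refine Subgroup.mem_centralizer_singleton_iff.2 (mul_inv_eq_iff_eq_mul.1 ?_)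
          rw [mul_inv_rev, show sW * g * xW * (g⁻¹ * sW⁻¹) = sW * (g * xW * g⁻¹) * sW⁻¹ by group, ← hk,
            ← conj_pow, hsinv, inv_pow]
          exact inv_eq_of_mul_eq_one_right (by rw [← pow_succ, xW_cube])
        have : g = sW * (sW * g) := by rw [← mul_assoc, sW_sq, one_mul]
        rw [this]
        exact mul_mem ⟨(⟨sW, hmems⟩, 1), by rw [hφ, map_one, mul_one]⟩ (hCle hsx)
  exact ⟨(MulEquiv.subgroupCongr hrange.symm).trans ((MonoidHom.ofInjective hφinj).symm.trans
    ((eD.trans e3).prodCongr (Equiv.altCongrHom (Fintype.equivFinOfCardEq nine_card))))⟩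

end Cfsg.Lib.CoOneUniq.Local
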