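import Cfsg.Agent.Lib.Extra.CoOneUniq.Local.NineTab
import Cfsg.Agent.Lib.Extra.CoOneUniq.Classes.Mono

/-!
# The finite checks for the bound of the centralizer of the element of order three
-/

set_option autoImplicit false
set_option maxRecDepth 100000
set_option Elab.async false

namespace Cfsg.Lib.CoOneUniq.Local

open Cfsg Cfsg.Lib.Concrete Cfsg.Lib.CoOne
open scoped Pointwise symmDiff

/-- The packed permutation of the element. -/
def xPerm : ℕ := (nineLetters.getD 0 (0, 0, 0)).1

theorem plan_ok : planOk xPerm ninePlan 0 = true ∧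
    (searchAux 1 0 xPerm xPerm ninePlan 0 0).length ≤ 21 := by decide +kernel

/-- The sign words compatible with the element. -/
def fixWords : List ℕ :=
  (codeList.filter fun m => !(m.testBit 23) && Nat.beq (nrm (pimg xPerm m)) (nrm m))

theorem fixWords_len : fixWords.length ≤ 8 ∧ (nineLetters.getD 0 (0, 0, 0)).2.2 = 0 ∧
    1 ≤ nineLetters.length := by decide +kernel

/-- The images under one plus the element plus its square. -/
def projImgs : List ℕ := (List.range 24).map fun j =>
  2 ^ j ^^^ (wImgs nineTab [1]).getD j 0 ^^^ (wImgs nineTab [1, 1]).getD j 0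

theorem fix_checks : nineFix.contains 0 = true ∧
    (projImgs.all fun a => nineFix.all fun c => nineFix.contains (c ^^^ a)) = true ∧
    ((nineFix.filter fun c => !(Nat.beq c 0) && qSing c).length ≤ 135) ∧
    wOK nineLetters [1] = true ∧ wOK nineLetters [1, 1] = true := by decide +kernel

theorem proj_single : ∀ j < 24, comboAux projImgs (2 ^ j) =
    2 ^ j ^^^ (wImgs nineTab [1]).getD j 0 ^^^ (wImgs nineTab [1, 1]).getD j 0 := by decide +kernel

end Cfsg.Lib.CoOneUniq.Local
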