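import Cfsg.Agent.Lib.Extra.CoOneUniq.Local.NineTab
import Cfsg.Agent.Lib.PresSymAlt.Carmichael

/-!
# Three times the alternating group of degree nine, with an inverting involution, inside the first Conway group

Seven words satisfy Carmichael's relations and commute with the element of order three and with the involution.
-/

set_option autoImplicit false
set_option maxRecDepth 100000
set_option linter.style.haveILetI false

namespace Cfsg.Lib.CoOneUniq.Local

open Cfsg Cfsg.Lib.Concrete Cfsg.Lib.CoOne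

/-- The word of a generator. -/
def tWord (i : ℕ) : List ℕ := nineWords.getD i []

/-- The table of a generator. -/
def tTab (i : ℕ) : List ℕ := nineCycTab.getD i []

/-- The table of the element. -/
def xTab : List ℕ := nineTab.getD 1 []

/-- The table of the identity. -/
def idTab : List ℕ := bits24.map (2 ^ ·)

theorem tTab_ok0 : (wImgs nineTab (tWord 0) == tTab 0 && wImgs nineTab (tWord 1) == tTab 1) = true := by decide +kernel

theorem tTab_ok1 : (wImgs nineTab (tWord 2) == tTab 2) = true := by decide +kernel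

theorem tTab_ok2 : (wImgs nineTab (tWord 3) == tTab 3) = true := by decide +kernel

theorem tTab_ok3 : (wImgs nineTab (tWord 4) == tTab 4) = true := by decide +kernel

theorem tTab_ok4 : (wImgs nineTab (tWord 5) == tTab 5) = true := by decide +kernel

theorem tTab_ok5 : (wImgs nineTab (tWord 6) == tTab 6) = true := by decide +kernel

theorem sTab_ok : (wImgs nineTab nineInv == nineInvTab) = true := by decide +kernel

theorem wok_all : ((List.range 7).all fun i => wOK nineLetters (tWord i)) = true ∧ wOK nineLetters nineInv = true ∧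
    wOK nineLetters [1] = true ∧ (wImgs nineTab [1] == xTab) = true := by decide +kernel

theorem nine_rels :
    mulI xTab (mulI xTab xTab) = idTab ∧
    ((List.range 7).all fun i => (mulI (tTab i) (mulI (tTab i) (tTab i)) == idTab) &&
      (mulI (tTab i) xTab == mulI xTab (tTab i)) && (mulI (tTab i) nineInvTab == mulI nineInvTab (tTab i))) = true ∧
    ((List.range 7).all fun i => (List.range 7).all fun j => Nat.ble j i ||
      (mulI (mulI (tTab i) (tTab j)) (mulI (tTab i) (tTab j)) == idTab)) = true ∧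
    mulI nineInvTab nineInvTab = idTab ∧ mulI nineInvTab xTab = mulI (mulI xTab xTab) nineInvTab ∧
    xTab ≠ idTab ∧ tTab 0 ≠ idTab := by
  decide +kernel

/-- The element of order three. -/
noncomputable def xW : Spor.Co1 := wEl nineLetters [1]

/-- The inverting involution. -/
noncomputable def sW : Spor.Co1 := wEl nineLetters nineInv

/-- A three-cycle. -/
noncomputable def tW (i : Fin 7) : Spor.Co1 := wEl nineLetters (tWord i.val)

theorem qImgs_xW : qImgs xW = xTab := by
  rw [xW, qImgs_wEl nine_tab _ wok_all.2.2.1]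
  exact beq_iff_eq.1 wok_all.2.2.2

theorem qImgs_sW : qImgs sW = nineInvTab := by
  rw [sW, qImgs_wEl nine_tab _ wok_all.2.1]
  exact beq_iff_eq.1 sTab_ok

theorem qImgs_tW (i : Fin 7) : qImgs (tW i) = tTab i.val := by
  rw [tW, qImgs_wEl nine_tab _ (List.all_eq_true.1 wok_all.1 i.val (List.mem_range.2 i.isLt))]
  have h0 := tTab_ok0
  simp only [Bool.and_eq_true, beq_iff_eq] at h0
  fin_cases i
  exacts [h0.1, h0.2, beq_iff_eq.1 tTab_ok1, beq_iff_eq.1 tTab_ok2, beq_iff_eq.1 tTab_ok3, beq_iff_eq.1 tTab_ok4,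
    beq_iff_eq.1 tTab_ok5]

theorem xW_cube : xW ^ 3 = 1 := by
  refine eq_of_qImgs ?_
  rw [pow_three, qImgs_mul, qImgs_mul, qImgs_xW, qImgs_one]
  exact nine_rels.1

theorem tW_facts (i : Fin 7) : tW i ^ 3 = 1 ∧ Commute (tW i) xW ∧ Commute (tW i) sW := by
  have h := List.all_eq_true.1 nine_rels.2.1 i.val (List.mem_range.2 i.isLt)
  simp only [Bool.and_eq_true, beq_iff_eq] at h
  refine ⟨eq_of_qImgs ?_, eq_of_qImgs ?_, eq_of_qImgs ?_⟩
  · rw [pow_three, qImgs_mul, qImgs_mul, qImgs_tW, qImgs_one]; exact h.1.1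
  · rw [qImgs_mul, qImgs_mul, qImgs_tW, qImgs_xW]; exact h.1.2
  · rw [qImgs_mul, qImgs_mul, qImgs_tW, qImgs_sW]; exact h.2

theorem carRel_tW : Cfsg.Lib.PresSymAlt.CarRel tW := by
  have hlt : ∀ i j : Fin 7, i.val < j.val → (tW i * tW j) ^ 2 = 1 := fun i j hij => by
    have h := List.all_eq_true.1 (List.all_eq_true.1 nine_rels.2.2.1 i.val (List.mem_range.2 i.isLt)) j.val
      (List.mem_range.2 j.isLt)
    simp only [Bool.or_eq_true, Nat.ble_eq, not_le.2 hij, false_or, beq_iff_eq] at h
    refine eq_of_qImgs ?_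
    rw [pow_two, qImgs_mul, qImgs_mul, qImgs_tW, qImgs_tW, qImgs_one]
    exact h
  refine ⟨fun i => (tW_facts i).1, fun i j hij => ?_⟩
  rcases lt_or_gt_of_ne (fun e => hij (Fin.ext e) : i.val ≠ j.val) with h | h
  · exact hlt i j h
  · rw [show tW i * tW j = (tW j)⁻¹ * (tW j * tW i) * tW j by group]
    have := hlt j i h
    rw [pow_two] at this ⊢
    rw [show (tW j)⁻¹ * (tW j * tW i) * tW j * ((tW j)⁻¹ * (tW j * tW i) * tW j) =
      (tW j)⁻¹ * (tW j * tW i * (tW j * tW i)) * tW j by group, this]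
    group

theorem sW_sq : sW * sW = 1 := by
  refine eq_of_qImgs ?_
  rw [qImgs_mul, qImgs_sW, qImgs_one]
  exact nine_rels.2.2.2.1

theorem sW_inv : sW * xW = xW⁻¹ * sW := by
  rw [inv_eq_of_mul_eq_one_right (show xW * (xW * xW) = 1 by rw [← pow_three, xW_cube])]
  refine eq_of_qImgs ?_
  rw [qImgs_mul, qImgs_mul, qImgs_mul, qImgs_sW, qImgs_xW]
  exact nine_rels.2.2.2.2.1

theorem xW_ne : xW ≠ 1 := fun e => nine_rels.2.2.2.2.2.1 (by rw [← qImgs_xW, e, qImgs_one]; rfl)

theorem tW_ne : tW 0 ≠ 1 := fun e => nine_rels.2.2.2.2.2.2 (by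
  rw [← show qImgs (tW 0) = tTab 0 from qImgs_tW 0, e, qImgs_one]; rfl)

end Cfsg.Lib.CoOneUniq.Local
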