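import Cfsg.Agent.Lib.Extra.CoOneUniq.Local.Word
import Cfsg.Agent.Lib.Extra.CoOneUniq.Local.NineData

/-!
# The table of the letters for the element of order three
-/

set_option autoImplicit false
set_option maxRecDepth 100000
set_option Elab.async false

namespace Cfsg.Lib.CoOneUniq.Local

open Cfsg Cfsg.Lib.Concrete Cfsg.Lib.CoOne

theorem nine_len : nineLetters.length = 56 ∧ nineTab.getD 0 [] = xiImgs := by decide +kernel

theorem nine_tab0 : (List.range' 0 8).all (tabAt nineLetters nineTab) = true := by decide +kernel

theorem nine_tab1 : (List.range' 8 8).all (tabAt nineLetters nineTab) = true := by decide +kernel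

theorem nine_tab2 : (List.range' 16 8).all (tabAt nineLetters nineTab) = true := by decide +kernel

theorem nine_tab3 : (List.range' 24 8).all (tabAt nineLetters nineTab) = true := by decide +kernel

theorem nine_tab4 : (List.range' 32 8).all (tabAt nineLetters nineTab) = true := by decide +kernel

theorem nine_tab5 : (List.range' 40 8).all (tabAt nineLetters nineTab) = true := by decide +kernel

theorem nine_tab6 : (List.range' 48 8).all (tabAt nineLetters nineTab) = true := by decide +kernel

theorem nine_tab : tabOK nineLetters nineTab = true := by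
  simp only [tabOK, Bool.and_eq_true, beq_iff_eq, List.all_eq_true, List.mem_range, nine_len, true_and]
  intro k hk
  have h : ∃ i < 7, 8 * i ≤ k ∧ k < 8 * i + 8 := ⟨k / 8, by omega, by omega, by omega⟩
  obtain ⟨i, hi, h1, h2⟩ := h
  have hm : k ∈ List.range' (8 * i) 8 := List.mem_range'_1.2 ⟨h1, h2⟩
  interval_cases i
  exacts [List.all_eq_true.1 nine_tab0 k hm, List.all_eq_true.1 nine_tab1 k hm, List.all_eq_true.1 nine_tab2 k hm, List.all_eq_true.1 nine_tab3 k hm, List.all_eq_true.1 nine_tab4 k hm, List.all_eq_true.1 nine_tab5 k hm, List.all_eq_true.1 nine_tab6 k hm]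

end Cfsg.Lib.CoOneUniq.Local
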