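import Cfsg.Agent.Lib.Extra.CoOneUniq.Local.Faithful

/-!
# The pairing of classes and the separation of norm four from norm eight
-/

set_option autoImplicit false
set_option maxRecDepth 100000

namespace Cfsg.Lib.CoOneUniq.Local

open Cfsg Cfsg.Lib.Concrete Cfsg.Lib.CoOne

/-- Whether the product of two classes is odd. -/
def bd (u v : ℕ) : Bool :=
  decide (dotInt (vsum bLeech u : GolayPt → ℤ) (vsum bLeech v : GolayPt → ℤ) % 16 = 8)

theorem dot_add_right (x y z : GolayPt → ℤ) : dotInt x (y + z) = dotInt x y + dotInt x z := by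
  simp only [dotInt, Pi.add_apply, mul_add, Finset.sum_add_distrib]

theorem dot_comm₂ (x y : GolayPt → ℤ) : dotInt x y = dotInt y x := by
  simp only [dotInt, mul_comm]

theorem bd_comm (u v : ℕ) : bd u v = bd v u := by rw [bd, bd, dot_comm₂]

theorem dot_congr_code {x y y' : GolayPt → ℤ} (hx : x ∈ leechLattice) (hy : y ∈ leechLattice)
    (hy' : y' ∈ leechLattice) (h : code y = code y') : (16 : ℤ) ∣ dotInt x y' - dotInt x y := by
  obtain ⟨z, hz, e⟩ := (code_eq_iff hy hy').1 h
  obtain ⟨d, hd⟩ := eight_dvd_dot hx hz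
  refine ⟨d, ?_⟩
  have e' : y' = y + (z + z) := by rw [← two_nsmul, ← e, add_sub_cancel]
  rw [e', dot_add_right, dot_add_right, hd]
  ring

theorem bd_vec (x y : leechLattice) :
    bd (code (x : GolayPt → ℤ)) (code (y : GolayPt → ℤ)) =
      decide (dotInt (x : GolayPt → ℤ) (y : GolayPt → ℤ) % 16 = 8) := by
  rw [bd]
  set a := vsum bLeech (code (x : GolayPt → ℤ))
  set b := vsum bLeech (code (y : GolayPt → ℤ))
  have h1 := dot_congr_code a.2 b.2 y.2 (code_vec (code_lt _))
  have h2 := dot_congr_code y.2 a.2 x.2 (code_vec (code_lt _))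
  rw [dot_comm₂ (y : GolayPt → ℤ) (x : GolayPt → ℤ), dot_comm₂ (y : GolayPt → ℤ) (a : GolayPt → ℤ)] at h2
  rw [decide_eq_decide]
  omega

theorem bd_fact (q : Spor.Co1) {u v : ℕ} (hu : u < 2 ^ 24) (hv : v < 2 ^ 24) :
    bd (fact q u) (fact q v) = bd u v := by
  obtain ⟨g, rfl⟩ := QuotientGroup.mk'_surjective _ q
  conv_lhs => rw [← code_vec hu, ← code_vec hv, fact_code, fact_code, bd_vec, co0_dot]
  rw [bd]

theorem bd_xor {u a b : ℕ} (ha : a < 2 ^ 24) (hb : b < 2 ^ 24) :
    bd u (a ^^^ b) = (bd u a ^^ bd u b) := by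
  set p := vsum bLeech a
  set r := vsum bLeech b
  set x := vsum bLeech u
  have hc : code ((p + r : leechLattice) : GolayPt → ℤ) = a ^^^ b := by
    rw [AddSubgroup.coe_add, code_add p.2 r.2, code_vec ha, code_vec hb]
  have h1 := dot_congr_code x.2 (vsum bLeech (a ^^^ b)).2 (p + r).2 (by
    rw [hc, code_vec (Nat.xor_lt_two_pow ha hb)])
  rw [AddSubgroup.coe_add, dot_add_right] at h1
  have h2 := eight_dvd_dot x.2 p.2
  have h3 := eight_dvd_dot x.2 r.2
  simp only [bd]
  set A := dotInt (x : GolayPt → ℤ) (p : GolayPt → ℤ)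
  set B := dotInt (x : GolayPt → ℤ) (r : GolayPt → ℤ)
  set D := dotInt (x : GolayPt → ℤ) (vsum bLeech (a ^^^ b) : GolayPt → ℤ)
  by_cases ea : A % 16 = 8 <;> by_cases eb : B % 16 = 8 <;> simp [ea, eb] <;> omega

theorem bd_zero (u : ℕ) : bd u 0 = false := by
  have h := bd_xor (u := u) (a := 0) (b := 0) (by norm_num) (by norm_num)
  rw [Nat.xor_self] at h
  cases hb : bd u 0 <;> simp_all

/-- A vector as a function on the points. -/
def ofList (l : List ℤ) (p : GolayPt) : ℤ := l.getD (gidx p).val 0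

/-- A class of norm four is not a class of norm eight. -/
theorem two_ne_four {x y : GolayPt → ℤ} (hx : x ∈ leechLattice) (hy : y ∈ leechLattice)
    (h2 : sqNorm x = 32) (h4 : sqNorm y = 64) : code x ≠ code y := by
  intro h
  obtain ⟨z, hz, e⟩ := (code_eq_iff hx hy).1 h
  have ey : y = x + 2 • z := by rw [← e, add_sub_cancel]
  have hz0 : z ≠ 0 := fun h0 => by
    rw [h0, smul_zero, add_zero] at ey
    rw [ey, h2] at h4
    norm_num at h4
  have hxz0 : x + z ≠ 0 := fun h0 => by
    have : y = -x := by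
      rw [ey, two_nsmul, ← add_assoc, h0, zero_add, eq_neg_of_add_eq_zero_right h0]
    rw [this] at h4
    rw [sqNorm_neg', h2] at h4
    norm_num at h4
  have g1 := sqNorm_ge (mem_leechLattice_iff.1 hz) hz0
  have g2 := sqNorm_ge (mem_leechLattice_iff.1 (add_mem hx hz)) hxz0
  have key : sqNorm z + sqNorm z + (sqNorm (x + z) + sqNorm (x + z)) = sqNorm x + sqNorm y := by
    rw [ey, two_nsmul]
    simp only [sqNorm, Pi.add_apply, ← Finset.sum_add_distrib]
    exact Finset.sum_congr rfl fun i _ => by ring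
  omega

end Cfsg.Lib.CoOneUniq.Local
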