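import Cfsg.Agent.Lib.Extra.CoOneUniq.Local.SevHalf
import Cfsg.Agent.Lib.Extra.CoOneUniq.Local.NineBound

/-!
# The centralizer of the element of order seven has order at most `7 * 2520`

Two marks on the classes of the first half are invariant; the images of three points are restricted by
them and the fourth is forced by the pairing and the classes of norm four.
-/

set_option autoImplicit false
set_option maxRecDepth 100000
set_option linter.style.haveILetI false

namespace Cfsg.Lib.CoOneUniq.Local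

open Cfsg Cfsg.Lib.Concrete Cfsg.Lib.CoOne

/-- The element of a root. -/
noncomputable def wR (r : ℕ) : Spor.Co1 := wEl sevLetters (sevRootW.getD r [])

theorem wR_spec {r : ℕ} (hr : r < 3) :
    fcode (wR r) = el1 (sevRoots.getD r 0) ∧ qImgs (wR r)⁻¹ = sevRootTab.getD r [] := by
  have h := List.all_eq_true.1 sev_root_words r (List.mem_range.2 hr)
  simp only [Bool.and_eq_true, beq_iff_eq, Nat.beq_eq] at h
  obtain ⟨⟨⟨⟨h1, h2⟩, h3⟩, h4⟩, h5⟩ := h
  constructor
  · rw [fcode, fact_eq_combo _ xi_moves.2, wR, qImgs_wEl sev_tab _ h1]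
    exact h5
  · have hm : wR r * wEl sevLetters (sevRootWi.getD r []) = 1 := eq_of_qImgs (by
      rw [wR, ← wEl_append, qImgs_wEl sev_tab _ (by
        rw [wOK, List.all_append, Bool.and_eq_true]; exact ⟨h1, h2⟩), h4, qImgs_one])
    rw [inv_eq_of_mul_eq_one_right hm, qImgs_wEl sev_tab _ h2]
    exact h3

/-- Reached from a root with equal marks. -/
def Node (a : ℕ) : Prop :=
  ∃ h ∈ cY, ∃ r < 3, a = pi1 h (sevRoots.getD r 0) ∧ markEq a (sevRoots.getD r 0) = true

theorem root_facts : ∀ r < 3, sevRoots.getD r 0 < 4096 ∧ sevRoots.getD r 0 ≠ 0 := by decide +kernel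

theorem tree_fold : ∀ (L : List ℕ) (seen : ℕ), L.foldl treeStep seen ≠ 0 →
    (∀ i, seen.testBit i = true → Node i) → ∀ i, (L.foldl treeStep seen).testBit i = true → Node i
  | [], _, _, h, i, hi => h i hi
  | e :: L, seen, hne, h, i, hi => by
    have hz : ∀ L : List ℕ, L.foldl treeStep 0 = 0 := by
      intro L
      induction L with
      | nil => rfl
      | cons x L ih => rw [List.foldl_cons, treeStep, Nat.zero_testBit]; exact ih
    rw [List.foldl_cons] at hne hi
    refine tree_fold L _ hne (fun j hj => ?_) i hi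
    cases hb : (seen.testBit (e / 4096 % 4096) && Nat.blt (e / 16777216) 6 &&
      Nat.beq (comboAux (hTab (e / 16777216)) (e / 4096 % 4096)) (e % 4096) &&
      markEq (e % 4096) (e / 4096 % 4096))
    · rw [treeStep, hb] at hne
      exact absurd (hz L) hne
    · rw [treeStep, hb, cond_true, Nat.testBit_or, Bool.or_eq_true] at hj
      rcases hj with hj | hj
      · exact h j hj
      · rw [Nat.one_shiftLeft, Nat.testBit_two_pow, decide_eq_true_eq] at hj
        subst hj
        simp only [Bool.and_eq_true, Nat.blt_eq, Nat.beq_eq] at hb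
        obtain ⟨⟨⟨h1, h2⟩, h3⟩, h4⟩ := hb
        obtain ⟨g, hg, r, hr, ha, hm⟩ := h _ h1
        refine ⟨gS (e / 16777216) * g, mul_mem (gS_mem h2) hg, r, hr, ?_, ?_⟩
        · rw [pi1_mul hg (root_facts r hr).1, ← ha, pi1_gS h2 _ (Nat.mod_lt _ (by norm_num)), h3]
        · simp only [markEq, Bool.and_eq_true, beq_iff_eq] at h4 hm ⊢
          exact ⟨h4.1.trans hm.1, h4.2.trans hm.2⟩

theorem node_all {a : ℕ} (ha : a < 4096) (h0 : a ≠ 0) : Node a := by
  have hall : ∀ i, (2 ^ 4096 - 2 : ℕ).testBit i = true → Node i := by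
    rw [← tree_check.1]
    refine tree_fold _ _ ?_ fun i hi => ?_
    · rw [tree_check.1]; decide +kernel
    · have hlt : i < 20 := by
        by_contra hn
        rw [Nat.testBit_lt_two_pow (lt_of_lt_of_le (show rootSet < 2 ^ 20 by decide +kernel)
          (Nat.pow_le_pow_right (by norm_num) (by omega)))] at hi
        exact Bool.noConfusion hi
      have hr : ∃ r < 3, i = sevRoots.getD r 0 := by
        have key : ∀ i < 20, rootSet.testBit i = true → ∃ r < 3, i = sevRoots.getD r 0 := by decide +kernel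
        exact key i hlt hi
      obtain ⟨r, hr3, rfl⟩ := hr
      exact ⟨1, one_mem _, r, hr3, (pi1_one (root_facts r hr3).1).symm, by simp [markEq]⟩
  refine hall a ?_
  rw [show (2 ^ 4096 - 2 : ℕ) = 2 * (2 ^ 4095 - 1) by
    rw [Nat.mul_sub, ← pow_succ']]
  cases a with
  | zero => exact absurd rfl h0
  | succ b =>
    rw [Nat.testBit_succ, Nat.mul_div_cancel_left _ (by norm_num), Nat.testBit_two_pow_sub_one]
    simpa using (by omega : b < 4095)

theorem node_frame {a : ℕ} (ha : a < 4096) (h0 : a ≠ 0) : ∃ q, fcode q = el1 a := by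
  obtain ⟨h, hh, r, hr, rfl, -⟩ := node_all ha h0
  exact ⟨h * wR r, by rw [fcode_mul, (wR_spec hr).1, el_pi1 hh (root_facts r hr).1]⟩

/-- The kind of a point from a frame. -/
noncomputable def kd (q : Spor.Co1) (x : ℕ) : ℕ := kindC (fact q⁻¹ (el1 x))

/-- The count of a set at a kind from a frame. -/
noncomputable def cnt (S : ℕ) (q : Spor.Co1) (k : ℕ) : ℕ :=
  ((Finset.range 4096).filter fun x => x ≠ 0 ∧ S.testBit x = true ∧ kd q x = k).card

theorem cnt_congr (S k : ℕ) {q q' : Spor.Co1} (h : fcode q = fcode q') : cnt S q k = cnt S q' k := by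
  refine congrArg Finset.card (Finset.filter_congr fun x hx => ?_)
  by_cases h0 : x = 0
  · simp [h0]
  obtain ⟨p, hp⟩ := node_frame (Finset.mem_range.1 hx) h0
  have hn : q'⁻¹ * q ∈ N1 := fcode_eq_iff.1 h.symm
  have e : kd q' x = kd q x := by
    rw [kd, kd, ← hp, ← fcode_mul, ← fcode_mul, show q'⁻¹ * p = q'⁻¹ * q * (q⁻¹ * p) by group, fcode_mul]
    exact kind_N1 hn _
  rw [e]

theorem cnt_transport {S k : ℕ} {h : Spor.Co1} (hh : h ∈ cY)
    (hS : ∀ x < 4096, x ≠ 0 → S.testBit (pi1 h x) = S.testBit x) (q : Spor.Co1) :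
    cnt S (h * q) k = cnt S q k := by
  have hne : ∀ {g : Spor.Co1}, g ∈ cY → ∀ {x}, x < 4096 → x ≠ 0 → pi1 g x ≠ 0 := fun {g} hg {x} hx h0 e =>
    h0 (pi1_inj hg hx (by norm_num) (e.trans (pi1_zero g).symm))
  have hk : ∀ x < 4096, kd (h * q) (pi1 h x) = kd q x := fun x hx => by
    rw [kd, kd, el_pi1 hh hx, ← fact_mul _ _ (el1_lt x), mul_inv_rev, inv_mul_cancel_right]
  refine (Finset.card_bij (fun x _ => pi1 h x) (fun x hx => ?_) (fun a ha b hb e => ?_) fun y hy => ?_).symm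
  · simp only [Finset.mem_filter, Finset.mem_range] at hx ⊢
    exact ⟨pi1_lt _ _, hne hh hx.1 hx.2.1, by rw [hS x hx.1 hx.2.1]; exact hx.2.2.1, by rw [hk x hx.1]; exact hx.2.2.2⟩
  · simp only [Finset.mem_filter, Finset.mem_range] at ha hb
    exact pi1_inj hh ha.1 hb.1 e
  · simp only [Finset.mem_filter, Finset.mem_range] at hy
    have e : pi1 h (pi1 h⁻¹ y) = y := by rw [← pi1_mul (inv_mem hh) hy.1, mul_inv_cancel, pi1_one hy.1]
    refine ⟨pi1 h⁻¹ y, ?_, e⟩
    simp only [Finset.mem_filter, Finset.mem_range]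
    have h1 := hne (inv_mem hh) hy.1 hy.2.1
    refine ⟨pi1_lt _ _, h1, ?_, ?_⟩
    · rw [← hS _ (pi1_lt _ _) h1, e]; exact hy.2.2.1
    · rw [← hk _ (pi1_lt _ _), e]; exact hy.2.2.2

theorem cnt_root (S k : ℕ) {r : ℕ} (hr : r < 3) : cnt S (wR r) k = rootCnt S k r := by
  rw [rootCnt]
  refine Eq.trans ?_ (List.toFinset_card_of_nodup (List.nodup_range.filter _))
  rw [cnt]
  refine congrArg Finset.card (Finset.ext fun x => ?_)
  rw [Finset.mem_filter, Finset.mem_range, List.mem_toFinset, List.mem_filter, List.mem_range, kd,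
    fact_eq_combo _ (el1_lt x), (wR_spec hr).2]
  simp only [Bool.and_eq_true, Bool.not_eq_true', Nat.beq_eq]
  constructor
  · rintro ⟨a, b, c, d⟩; exact ⟨a, ⟨nbeq_false b, c⟩, d⟩
  · rintro ⟨a, ⟨b, c⟩, d⟩
    exact ⟨a, fun e => by simp [e] at b, c, d⟩

/-- The count from the frame of a point with prescribed invariance. -/
theorem cnt_node {S k : ℕ} (hS : ∀ h ∈ cY, ∀ x < 4096, x ≠ 0 → S.testBit (pi1 h x) = S.testBit x)
    {g : Spor.Co1} (hg : g ∈ cY) {a : ℕ} (ha : a < 4096) (h0 : a ≠ 0) {r r' : ℕ} (hr : r < 3) (hr' : r' < 3)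
    {h h' : Spor.Co1} (hh : h ∈ cY) (hh' : h' ∈ cY) (e : a = pi1 h (sevRoots.getD r 0))
    (e' : pi1 g a = pi1 h' (sevRoots.getD r' 0)) : rootCnt S k r = rootCnt S k r' := by
  have h2 := (fcode_mul h' (wR r')).trans (by rw [(wR_spec hr').1, ← el_pi1 hh' (root_facts r' hr').1, ← e'])
  have h1 := (fcode_mul (g * h) (wR r)).trans (by
    rw [(wR_spec hr).1, ← el_pi1 (mul_mem hg hh) (root_facts r hr).1, pi1_mul hh (root_facts r hr).1, ← e])
  have := cnt_congr S k (h1.trans h2.symm)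
  rwa [cnt_transport (mul_mem hg hh) (hS _ (mul_mem hg hh)), cnt_transport hh' (hS _ hh'), cnt_root S k hr,
    cnt_root S k hr'] at this

theorem mark_inv {g : Spor.Co1} (hg : g ∈ cY) {a : ℕ} (ha : a < 4096) (h0 : a ≠ 0) :
    sevMarkFour.testBit (pi1 g a) = sevMarkFour.testBit a ∧
      sevMarkPt.testBit (pi1 g a) = sevMarkPt.testBit a := by
  have h4 := tree_check.2.2.1
  have hp := tree_check.2.2.2
  rw [tree_check.2.1] at h4 hp
  simp only [List.map_cons, List.map_nil, List.cons.injEq, and_true] at h4 hp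
  have hfull : ∀ h ∈ cY, ∀ x < 4096, x ≠ 0 → (2 ^ 4096 - 1 : ℕ).testBit (pi1 h x) = (2 ^ 4096 - 1 : ℕ).testBit x :=
    fun h _ x hx _ => by rw [Nat.testBit_two_pow_sub_one, Nat.testBit_two_pow_sub_one, decide_eq_true (pi1_lt _ _), decide_eq_true hx]
  have four : ∀ {g}, g ∈ cY → ∀ {a}, a < 4096 → a ≠ 0 → sevMarkFour.testBit (pi1 g a) = sevMarkFour.testBit a := by
    intro g hg a ha h0
    have h1 : pi1 g a ≠ 0 := fun e => h0 (pi1_inj hg ha (by norm_num) (e.trans (pi1_zero g).symm))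
    obtain ⟨h, hh, r, hr, e, hm⟩ := node_all ha h0
    obtain ⟨h', hh', r', hr', e', hm'⟩ := node_all (pi1_lt g a) h1
    have c := cnt_node (k := 0) hfull hg ha h0 hr hr' hh hh' e e'
    simp only [markEq, Bool.and_eq_true, beq_iff_eq] at hm hm'
    rw [hm'.1, hm.1, tree_check.2.1]
    obtain ⟨c0, c1, c2⟩ := cnt_all
    interval_cases r <;> interval_cases r' <;>
      first
        | rfl
        | (simp only [List.getD_cons_zero, List.getD_cons_succ]; rw [h4.2.1, h4.2.2])
        | (exfalso; omega)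
  refine ⟨four hg ha h0, ?_⟩
  have h1 : pi1 g a ≠ 0 := fun e => h0 (pi1_inj hg ha (by norm_num) (e.trans (pi1_zero g).symm))
  obtain ⟨h, hh, r, hr, e, hm⟩ := node_all ha h0
  obtain ⟨h', hh', r', hr', e', hm'⟩ := node_all (pi1_lt g a) h1
  have c := cnt_node (k := 8) (S := sevMarkFour) (fun h hh x hx hx0 => four hh hx hx0) hg ha h0 hr hr' hh hh' e e'
  simp only [markEq, Bool.and_eq_true, beq_iff_eq] at hm hm'
  rw [hm'.2, hm.2, tree_check.2.1]
  obtain ⟨c0, c1, c2⟩ := cnt_four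
  interval_cases r <;> interval_cases r' <;>
    first
      | rfl
      | (exfalso; omega)

/-- The stabiliser of a class. -/
noncomputable def fixC (a : ℕ) : Subgroup Spor.Co1 where
  carrier := {g | fact g (el1 a) = el1 a}
  one_mem' := fact_one (el1_lt a)
  mul_mem' := fun {x y} hx hy => by
    show fact (x * y) (el1 a) = el1 a
    rw [fact_mul _ _ (el1_lt a), hy, hx]
  inv_mem' := fun {x} hx => by
    show fact x⁻¹ (el1 a) = el1 a
    conv_lhs => rw [← hx]
    rw [← fact_mul _ _ (el1_lt a), inv_mul_cancel, fact_one (el1_lt a)]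

/-- The stabiliser of a list of points. -/
noncomputable def stab : List ℕ → Subgroup Spor.Co1
  | [] => cY
  | a :: L => stab L ⊓ fixC a

theorem stab_le : ∀ L, stab L ≤ cY
  | [] => le_rfl
  | _ :: L => inf_le_left.trans (stab_le L)

theorem stab_fix {g : Spor.Co1} : ∀ {L : List ℕ}, g ∈ stab L → ∀ a ∈ L, a < 4096 → pi1 g a = a
  | [], _, a, ha, _ => absurd ha List.not_mem_nil
  | b :: L, hg, a, ha, hlt => by
    rcases List.mem_cons.1 ha with rfl | ha
    · rw [pi1, show fact g (el1 a) = el1 a from hg.2, (co_el a hlt).1]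
    · exact stab_fix hg.1 a ha hlt

theorem pt_lt {o : ℕ} (h : o ∈ ptList) : o < 4096 := List.mem_range.1 (List.mem_filter.1 h).1

theorem pt_ne {o : ℕ} (h : o ∈ ptList) : o ≠ 0 := by
  rintro rfl
  have h0 : sevMarkPt.testBit 0 = false := by decide +kernel
  rw [(List.mem_filter.1 h).2] at h0
  exact Bool.noConfusion h0

theorem pt_inv {g : Spor.Co1} (hg : g ∈ cY) {o : ℕ} (h : o ∈ ptList) : pi1 g o ∈ ptList :=
  List.mem_filter.2 ⟨List.mem_range.2 (pi1_lt g o),
    by rw [(mark_inv hg (pt_lt h) (pt_ne h)).2]; exact (List.mem_filter.1 h).2⟩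

theorem cand_inv {g : Spor.Co1} {L : List ℕ} (hg : g ∈ cY) (hfix : ∀ a ∈ L, pi1 g a = a)
    (hL : ∀ a ∈ L, a < 4096) {o : ℕ} (h : o ∈ candL L) : pi1 g o ∈ candL L := by
  obtain ⟨ho, hc⟩ := List.mem_filter.1 h
  simp only [Bool.and_eq_true, List.all_eq_true, List.mem_range, Bool.not_eq_true'] at hc
  have hLfix : L.map (pi1 g) = L := (List.map_congr_left hfix).trans (List.map_id' L)
  have hb : (b3 L).map (pi1 g) = b3 L := by rw [pi1_b3 hg L hL, hLfix]
  refine List.mem_filter.2 ⟨pt_inv hg ho, ?_⟩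
  simp only [Bool.and_eq_true, List.all_eq_true, List.mem_range, Bool.not_eq_true']
  refine ⟨fun c hc' => nbeq_false fun e => ?_, fun c hc' => ?_⟩
  · rw [← hb, ← pi1_combo] at e
    have hlt : comboAux (b3 L) c < 4096 := by
      refine combo_lt (n := 12) _ (fun b hb' => ?_) c
      rw [← hb] at hb'
      obtain ⟨x, -, rfl⟩ := List.mem_map.1 hb'
      exact pi1_lt g x
    have := hc.1 c hc'
    rw [pi1_inj hg (pt_lt ho) hlt e, Nat.beq_refl] at this
    exact Bool.noConfusion this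
  · have h2 := hc.2 c hc'
    have hlt : o ^^^ comboAux L c < 4096 :=
      Nat.xor_lt_two_pow (n := 12) (pt_lt ho) (combo_lt (n := 12) _ hL c)
    by_cases hz : o ^^^ comboAux L c = 0
    · have h0 : sevMarkPt.testBit 0 = false := by decide +kernel
      rw [hz, h0] at h2
      exact Bool.noConfusion h2
    conv_lhs => rw [← hLfix]
    rw [← pi1_combo, ← pi1_xor, (mark_inv hg hlt hz).2]
    exact h2

theorem pa_facts : pA 0 < 4096 ∧ pA 1 < 4096 ∧ pA 2 < 4096 ∧ pA 3 < 4096 := by decide +kernel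

theorem bd_el (u : ℕ) : ∀ m < 4096, ∀ i < 12, (∀ j < 12, bd u (el2 (2 ^ j)) = decide (i = j)) →
    bd u (el2 m) = m.testBit i := fun m hm i hi hb => by
  refine Cfsg.Lib.CoOneLocal.xor_all 12 (P := fun m => bd u (el2 m) = m.testBit i) ?_ (fun a b _ _ ha hb' => ?_)
    (fun j hj => ?_) m hm
  · rw [el2, combo_zero, bd_zero, Nat.zero_testBit]
  · rw [el2_xor, bd_xor (el2_lt a) (el2_lt b), ha, hb', Nat.testBit_xor]
  · rw [hb j hj, Nat.testBit_two_pow]
    exact decide_eq_decide.2 eq_comm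

theorem pi2_bit {g : Spor.Co1} (hg : g ∈ cY) {q i : ℕ} (hq : q < 4096) (hi : i < 12) {p : ℕ} (hp : p < 4096)
    (e : pi1 g p = sevDual.getD i 0) : (pi2 g q).testBit i = bd (el1 p) (el2 q) := by
  rw [← bd_el _ _ (pi2_lt g q) i hi (dual_check i hi), el_pi2 hg hq, ← e, el_pi1 hg hp,
    bd_fact g (el1_lt p) (el2_lt q)]

theorem coPts_spec : ∀ i < 12, comboAux (b3 sevPts) (sevCoPts.getD i 0) = 2 ^ i ∧ sevDual.getD i 0 < 4096 := by
  intro i hi
  have := List.all_eq_true.1 cand_checks.2.2.2.2.2.2.2.2.2.1 i (List.mem_range.2 hi)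
  simpa [Bool.and_eq_true, Nat.beq_eq, Nat.blt_eq] using this

theorem forced {g : Spor.Co1} (hg : g ∈ stab [pA 2, pA 1, pA 0]) : pi1 g (pA 3) = pA 3 := by
  have hc := stab_le _ hg
  obtain ⟨l0, l1, l2, l3⟩ := pa_facts
  have f : ∀ a ∈ [pA 0, pA 1, pA 2], pi1 g a = a ∧ a < 4096 := by
    intro a ha
    have hlt : a < 4096 := by
      simp only [List.mem_cons, List.not_mem_nil, or_false] at ha
      rcases ha with rfl | rfl | rfl <;> assumption
    exact ⟨stab_fix hg a (by simp only [List.mem_cons, List.not_mem_nil, or_false] at ha ⊢; tauto) hlt, hlt⟩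
  have hd := cand_inv hc (fun a ha => (f a ha).1) (fun a ha => (f a ha).2) cand_checks.2.2.2.2.2.2.2.1
  rcases cand_checks.2.2.2.1 _ hd with h | h
  · exact h
  exfalso
  obtain ⟨t, ht, hdt⟩ := List.getElem_of_mem h
  have hb := List.all_eq_true.1 bad_check t (List.mem_range.2 (cand_checks.2.2.2.2.2.2.2.2.1 ▸ ht))
  simp only [badOK, Bool.and_eq_true, List.all_eq_true, List.mem_range, Nat.beq_eq, Nat.blt_eq,
    decide_eq_true_eq, beq_iff_eq] at hb
  obtain ⟨⟨⟨⟨⟨⟨⟨⟨⟨⟨⟨-, hp⟩, hq⟩, hbl⟩, hrow⟩, hi2⟩, hi4⟩, hn2⟩, hn4⟩, hc2⟩, hc4⟩, hlen⟩ := hb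
  rw [List.getD_eq_getElem _ _ ht, hdt] at hrow
  have hM : ∀ m < 4096, pi1 g m = comboAux (sevBadMap.getD t []) m := by
    refine Cfsg.Lib.CoOneLocal.xor_all 12 (by rw [pi1_zero, combo_zero])
      (fun a b _ _ ha hb => by rw [pi1_xor, comboAux_xor, ha, hb]) fun i hi => ?_
    have hs : comboAux (sevBadMap.getD t []) (2 ^ i) = (sevBadMap.getD t []).getD i 0 := combo_single _ _
    rw [hs, (hrow i hi).1.1.1]
    conv_lhs => rw [← (coPts_spec i hi).1, cand_checks.2.2.2.2.2.2.2.2.2.2]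
    rw [pi1_combo, pi1_b3 hc _ (by simp [l0, l1, l2, l3])]
    simp only [List.map_cons, List.map_nil, (f (pA 0) (by simp)).1, (f (pA 1) (by simp)).1,
      (f (pA 2) (by simp)).1]
  have hb2 : pi2 g ((sevBadCls.getD t []).getD 1 0) = (sevBadCls.getD t []).getD 2 0 := by
    refine Nat.eq_of_testBit_eq fun i => ?_
    by_cases hi : i < 12
    · obtain ⟨⟨⟨-, hpl⟩, hpre⟩, hbit⟩ := hrow i hi
      rw [pi2_bit hc hq hi hpl (by rw [hM _ hpl, hpre]), hbit]
    · have hp2 : 2 ^ 12 ≤ 2 ^ i := Nat.pow_le_pow_right (by norm_num) (by omega)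
      rw [Nat.testBit_lt_two_pow (lt_of_lt_of_le (pi2_lt g _) hp2), Nat.testBit_lt_two_pow (lt_of_lt_of_le hbl hp2)]
  obtain ⟨k, hk⟩ := QuotientGroup.mk'_surjective _ g
  have himg : fact g (el1 ((sevBadCls.getD t []).getD 0 0) ^^^ el2 ((sevBadCls.getD t []).getD 1 0)) =
      el1 (comboAux (sevBadMap.getD t []) ((sevBadCls.getD t []).getD 0 0)) ^^^ el2 ((sevBadCls.getD t []).getD 2 0) := by
    rw [fact_xor, ← el_pi1 hc hp, ← el_pi2 hc hq, hM _ hp, hb2]
  let v : leechLattice := ⟨_, mem_leech_of_inLeech hi2⟩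
  rw [← hc2, ← hk, fact_code k v, ← hc4] at himg
  exact two_ne_four (k • v).2 (mem_leech_of_inLeech hi4) ((co0_sqNorm k v).trans hn2) hn4 himg

theorem stab_bot {g : Spor.Co1} (hg : g ∈ stab [pA 2, pA 1, pA 0]) : g = 1 := by
  have hc := stab_le _ hg
  obtain ⟨l0, l1, l2, l3⟩ := pa_facts
  have h3 := forced hg
  have hall : ∀ m < 4096, pi1 g m = m :=
    Cfsg.Lib.CoOneLocal.xor_all 12 (pi1_zero g) (fun a b _ _ ha hb => by rw [pi1_xor, ha, hb]) fun i hi => by
      conv_lhs => rw [← (coPts_spec i hi).1, cand_checks.2.2.2.2.2.2.2.2.2.2]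
      rw [pi1_combo, pi1_b3 hc _ (by simp [l0, l1, l2, l3])]
      simp only [List.map_cons, List.map_nil, stab_fix hg (pA 0) (by simp) l0, stab_fix hg (pA 1) (by simp) l1,
        stab_fix hg (pA 2) (by simp) l2, h3]
      rw [← cand_checks.2.2.2.2.2.2.2.2.2.2]
      exact (coPts_spec i hi).1
  have hall2 : ∀ m < 4096, pi2 g m = m := fun m hm => by
    refine Nat.eq_of_testBit_eq fun i => ?_
    by_cases hi : i < 12
    · have hd := (coPts_spec i hi).2
      rw [pi2_bit hc hm hi hd (hall _ hd), bd_el _ m hm i hi (dual_check i hi)]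
    · have hp2 : 2 ^ 12 ≤ 2 ^ i := Nat.pow_le_pow_right (by norm_num) (by omega)
      rw [Nat.testBit_lt_two_pow (lt_of_lt_of_le (pi2_lt g _) hp2), Nat.testBit_lt_two_pow (lt_of_lt_of_le hm hp2)]
  have hk : g ∈ actKer := fun c hcl => by
    conv_lhs => rw [← split_eq c hcl]
    rw [fact_xor, ← el_pi1 hc (co1_lt c), ← el_pi2 hc (co2_lt c), hall _ (co1_lt c), hall2 _ (co2_lt c), split_eq c hcl]
  rwa [actKer_eq_bot, Subgroup.mem_bot] at hk

theorem card_stab_step (L : List ℕ) {a : ℕ} (F : List ℕ) {n : ℕ} (ha : a < 4096) (hF : F.length ≤ n)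
    (hinv : ∀ g ∈ stab L, pi1 g a ∈ F) : Nat.card ↥(stab L) ≤ n * Nat.card ↥(stab (a :: L)) := by
  haveI : Finite Co0 := finite_Co0
  refine (card_le_of_fibres (stab L) (fixC a) (fun g => pi1 g a) F.toFinset
    (fun g hg => List.mem_toFinset.2 (hinv g hg)) fun x hx y hy e => ?_).trans
    (Nat.mul_le_mul (toFinset_card_le_of hF) le_rfl)
  show fact (x⁻¹ * y) (el1 a) = el1 a
  rw [fact_mul _ _ (el1_lt a), ← el_pi1 (stab_le _ hy) ha, ← (show pi1 x a = pi1 y a from e),
    el_pi1 (stab_le _ hx) ha, ← fact_mul _ _ (el1_lt a), inv_mul_cancel, fact_one (el1_lt a)]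

theorem card_cY_le : Nat.card ↥cY ≤ 17640 := by
  obtain ⟨l0, l1, l2, l3⟩ := pa_facts
  obtain ⟨c0, c1, c2, -, m0, m1, m2, -⟩ := cand_checks
  have h0 : Nat.card ↥cY ≤ 105 * Nat.card ↥(stab [pA 0]) :=
    card_stab_step [] ptList l0 c0 fun g hg => pt_inv hg m0
  have h1 : Nat.card ↥(stab [pA 0]) ≤ 14 * Nat.card ↥(stab [pA 1, pA 0]) :=
    card_stab_step [pA 0] (candL [pA 0]) l1 c1 fun g hg => cand_inv (stab_le _ hg)
      (fun a ha => by simp only [List.mem_singleton] at ha; subst ha; exact stab_fix hg _ (by simp) l0)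
      (fun a ha => by simp only [List.mem_singleton] at ha; subst ha; exact l0) m1
  have h2 : Nat.card ↥(stab [pA 1, pA 0]) ≤ 12 * Nat.card ↥(stab [pA 2, pA 1, pA 0]) :=
    card_stab_step [pA 1, pA 0] (candL [pA 0, pA 1]) l2 c2 fun g hg => cand_inv (stab_le _ hg)
      (fun a ha => by
        simp only [List.mem_cons, List.not_mem_nil, or_false] at ha
        rcases ha with rfl | rfl
        · exact stab_fix hg _ (by simp) l0
        · exact stab_fix hg _ (by simp) l1)
      (fun a ha => by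
        simp only [List.mem_cons, List.not_mem_nil, or_false] at ha
        rcases ha with rfl | rfl <;> assumption) m2
  have hb : stab [pA 2, pA 1, pA 0] = ⊥ := (Subgroup.eq_bot_iff_forall _).2 fun g hg => stab_bot hg
  rw [hb, Subgroup.card_bot] at h2
  omega

end Cfsg.Lib.CoOneUniq.Local
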