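import Cfsg.Agent.Lib.Extra.CoOneUniq.Local.SevTab
import Cfsg.Agent.Lib.Extra.CoOneUniq.Local.Pairing

/-!
# The finite checks for the element of order seven
-/

set_option autoImplicit false
set_option maxRecDepth 100000
set_option Elab.async false

namespace Cfsg.Lib.CoOneUniq.Local

open Cfsg Cfsg.Lib.Concrete Cfsg.Lib.CoOne

/-- A class of the first half from its coordinates. -/
def el1 (m : ℕ) : ℕ := comboAux sevBas1 m

/-- A class of the second half from its coordinates. -/
def el2 (m : ℕ) : ℕ := comboAux sevBas2 m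

/-- The coordinates in the first half. -/
def co1 (c : ℕ) : ℕ := comboAux sevCo1 c

/-- The coordinates in the second half. -/
def co2 (c : ℕ) : ℕ := comboAux sevCo2 c

/-- The table of a generator. -/
def gTab (k : ℕ) : List ℕ := sevGenTab.getD k []

/-- A generator on the coordinates of the first half. -/
def hTab (k : ℕ) : List ℕ := sevHalfTab.getD k []

/-- The element on classes. -/
def yC (c : ℕ) : ℕ := comboAux (gTab 0) c

theorem half_checks : sevBas1.all (fun c => Nat.blt c (2 ^ 24)) = true ∧ sevBas2.all (fun c => Nat.blt c (2 ^ 24)) = true ∧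
    sevCo1.all (fun c => Nat.blt c 4096) = true ∧ sevCo2.all (fun c => Nat.blt c 4096) = true ∧
    (∀ j < 24, el1 (co1 (2 ^ j)) = 2 ^ j ^^^ yC (2 ^ j) ^^^ yC (yC (2 ^ j)) ^^^ yC (yC (yC (yC (2 ^ j)))) ∧
      el1 (co1 (2 ^ j)) ^^^ el2 (co2 (2 ^ j)) = 2 ^ j) ∧
    (∀ i < 12, co1 (el1 (2 ^ i)) = 2 ^ i ∧ co2 (el2 (2 ^ i)) = 2 ^ i ∧ co1 (el2 (2 ^ i)) = 0 ∧
      co2 (el1 (2 ^ i)) = 0) := by decide +kernel

theorem gen_checks : (List.range 6).all (fun k =>
    (mulI (gTab k) (gTab 0) == mulI (gTab 0) (gTab k)) && (hTab k).all (fun c => Nat.blt c 4096) &&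
    (List.range 12).all (fun i => Nat.beq (comboAux (gTab k) (el1 (2 ^ i))) (el1 (comboAux (hTab k) (2 ^ i))))) = true := by
  decide +kernel

/-- Whether a point has the two marks of another. -/
def markEq (a b : ℕ) : Bool :=
  (sevMarkFour.testBit a == sevMarkFour.testBit b) && (sevMarkPt.testBit a == sevMarkPt.testBit b)

/-- The next set of seen points, or zero on failure. -/
def treeStep (seen code : ℕ) : ℕ :=
  bif seen.testBit (code / 4096 % 4096) && Nat.blt (code / 16777216) 6 &&
      Nat.beq (comboAux (hTab (code / 16777216)) (code / 4096 % 4096)) (code % 4096) &&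
      markEq (code % 4096) (code / 4096 % 4096)
  then seen ||| 1 <<< (code % 4096) else 0

/-- The roots as a set. -/
def rootSet : ℕ := sevRoots.foldl (fun s r => s ||| 1 <<< r) 0

theorem tree_check : sevTree.flatten.foldl treeStep rootSet = 2 ^ 4096 - 2 ∧ sevRoots = [1, 2, 19] ∧
    (sevRoots.map sevMarkFour.testBit = [true, false, false]) ∧
    (sevRoots.map sevMarkPt.testBit = [false, false, true]) := by decide +kernel

/-- The number of classes of a set at a kind from a root. -/
def rootCnt (S k r : ℕ) : ℕ :=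
  ((List.range 4096).filter fun x => !(Nat.beq x 0) && S.testBit x &&
    Nat.beq (kindC (comboAux (sevRootTab.getD r []) (el1 x))) k).length

theorem cnt_all : rootCnt (2 ^ 4096 - 1) 0 0 = 3 ∧ rootCnt (2 ^ 4096 - 1) 0 1 = 15 ∧
    rootCnt (2 ^ 4096 - 1) 0 2 = 15 := by decide +kernel

theorem cnt_four : rootCnt sevMarkFour 8 0 = 507 ∧ rootCnt sevMarkFour 8 1 = 546 ∧
    rootCnt sevMarkFour 8 2 = 798 := by decide +kernel

/-- The points. -/
def ptList : List ℕ := (List.range 4096).filter fun x => sevMarkPt.testBit x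

/-- A point of the basis. -/
def pA (i : ℕ) : ℕ := sevPts.getD i 0

/-- Three powers of the element applied to each point. -/
def b3 (L : List ℕ) : List ℕ := L.flatMap fun a => [a, comboAux (hTab 0) a, comboAux (hTab 0) (comboAux (hTab 0) a)]

/-- The possible images of the next point. -/
def candL (L : List ℕ) : List ℕ :=
  ptList.filter fun o => ((List.range (2 ^ (3 * L.length))).all fun c => !(Nat.beq o (comboAux (b3 L) c))) &&
    (List.range (2 ^ L.length)).all fun c => sevMarkPt.testBit (o ^^^ comboAux L c)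

theorem cand_checks : ptList.length ≤ 105 ∧ (candL [pA 0]).length ≤ 14 ∧ (candL [pA 0, pA 1]).length ≤ 12 ∧
    (∀ d ∈ candL [pA 0, pA 1, pA 2], d = pA 3 ∨ d ∈ sevBad) ∧ pA 0 ∈ ptList ∧ pA 1 ∈ candL [pA 0] ∧
    pA 2 ∈ candL [pA 0, pA 1] ∧ pA 3 ∈ candL [pA 0, pA 1, pA 2] ∧ sevBad.length = 7 ∧
    (List.range 12).all (fun i => Nat.beq (comboAux (b3 sevPts) (sevCoPts.getD i 0)) (2 ^ i) &&
      Nat.blt (sevDual.getD i 0) 4096) = true ∧ sevPts = [pA 0, pA 1, pA 2, pA 3] := by decide +kernel

theorem dual_check : ∀ i < 12, ∀ j < 12, bd (el1 (sevDual.getD i 0)) (el2 (2 ^ j)) = decide (i = j) := by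
  decide +kernel

/-- The data against a wrong candidate. -/
def badOK (t : ℕ) : Bool :=
  let d := sevBad.getD t 0
  let M := sevBadMap.getD t []
  let pre := sevBadPre.getD t []
  let p := (sevBadCls.getD t []).getD 0 0
  let q := (sevBadCls.getD t []).getD 1 0
  let b := (sevBadCls.getD t []).getD 2 0
  Nat.blt d 4096 && Nat.blt p 4096 && Nat.blt q 4096 && Nat.blt b 4096 &&
  (List.range 12).all (fun i => Nat.beq (M.getD i 0) (comboAux (b3 [pA 0, pA 1, pA 2, d]) (sevCoPts.getD i 0)) &&
    Nat.blt (pre.getD i 0) 4096 && Nat.beq (comboAux M (pre.getD i 0)) (sevDual.getD i 0) &&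
    (bd (el1 (pre.getD i 0)) (el2 q) == b.testBit i)) &&
  inLeech (ofList (sevVecTwo.getD t [])) && inLeech (ofList (sevVecFour.getD t [])) &&
  decide (sqNorm (ofList (sevVecTwo.getD t [])) = 32) && decide (sqNorm (ofList (sevVecFour.getD t [])) = 64) &&
  Nat.beq (code (ofList (sevVecTwo.getD t []))) (el1 p ^^^ el2 q) &&
  Nat.beq (code (ofList (sevVecFour.getD t []))) (el1 (comboAux M p) ^^^ el2 b) && (M.length == 12)

theorem bad_check : (List.range 7).all badOK = true := by decide +kernel

end Cfsg.Lib.CoOneUniq.Local
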