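import Cfsg.Agent.Lib.Extra.CoOneUniq.Local.SevChecks

/-!
# The two halves of the classes under the centralizer of the element of order seven
-/

set_option autoImplicit false
set_option maxRecDepth 100000

namespace Cfsg.Lib.CoOneUniq.Local

open Cfsg Cfsg.Lib.Concrete Cfsg.Lib.CoOne

theorem combo_lt {n : ℕ} : ∀ (L : List ℕ), (∀ b ∈ L, b < 2 ^ n) → ∀ c, comboAux L c < 2 ^ n
  | [], _, _ => Nat.two_pow_pos n
  | b :: L, h, c => by
    rw [comboAux]
    refine Nat.xor_lt_two_pow ?_ (combo_lt L (fun x hx => h x (List.mem_cons_of_mem _ hx)) _)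
    cases c % 2 == 1
    · exact Nat.two_pow_pos n
    · exact h b List.mem_cons_self

theorem combo_single : ∀ (L : List ℕ) (j : ℕ), comboAux L (2 ^ j) = L.getD j 0
  | [], _ => rfl
  | b :: L, 0 => by
    rw [comboAux, pow_zero, show (1 : ℕ) / 2 = 0 from rfl, combo_zero]
    simp
  | b :: L, j + 1 => by
    rw [comboAux, show (2 : ℕ) ^ (j + 1) / 2 = 2 ^ j by rw [pow_succ]; omega, combo_single L j,
      show (2 : ℕ) ^ (j + 1) % 2 = 0 by rw [pow_succ]; omega, List.getD_cons_succ]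
    exact Nat.zero_xor _

theorem el1_lt (m : ℕ) : el1 m < 2 ^ 24 :=
  combo_lt _ (fun b hb => Nat.le_of_ble_eq_true (List.all_eq_true.1 half_checks.1 b hb)) m

theorem el2_lt (m : ℕ) : el2 m < 2 ^ 24 :=
  combo_lt _ (fun b hb => Nat.le_of_ble_eq_true (List.all_eq_true.1 half_checks.2.1 b hb)) m

theorem co1_lt (c : ℕ) : co1 c < 4096 :=
  combo_lt (n := 12) _ (fun b hb => Nat.le_of_ble_eq_true (List.all_eq_true.1 half_checks.2.2.1 b hb)) c

theorem co2_lt (c : ℕ) : co2 c < 4096 :=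
  combo_lt (n := 12) _ (fun b hb => Nat.le_of_ble_eq_true (List.all_eq_true.1 half_checks.2.2.2.1 b hb)) c

theorem el1_xor (a b : ℕ) : el1 (a ^^^ b) = el1 a ^^^ el1 b := comboAux_xor _ _ _

theorem el2_xor (a b : ℕ) : el2 (a ^^^ b) = el2 a ^^^ el2 b := comboAux_xor _ _ _

theorem co1_xor (a b : ℕ) : co1 (a ^^^ b) = co1 a ^^^ co1 b := comboAux_xor _ _ _

theorem co2_xor (a b : ℕ) : co2 (a ^^^ b) = co2 a ^^^ co2 b := comboAux_xor _ _ _

theorem yC_xor (a b : ℕ) : yC (a ^^^ b) = yC a ^^^ yC b := comboAux_xor _ _ _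

theorem proj1_eq : ∀ c < 2 ^ 24,
    el1 (co1 c) = c ^^^ yC c ^^^ yC (yC c) ^^^ yC (yC (yC (yC c))) :=
  Cfsg.Lib.CoOneLocal.xor_all 24 (by simp only [el1, co1, yC, combo_zero]; rfl)
    (fun a b _ _ ha hb => by rw [co1_xor, el1_xor, ha, hb]; simp only [yC_xor]; ac_rfl)
    fun j hj => (half_checks.2.2.2.2.1 j hj).1

theorem split_eq : ∀ c < 2 ^ 24, el1 (co1 c) ^^^ el2 (co2 c) = c :=
  Cfsg.Lib.CoOneLocal.xor_all 24 (by simp only [el1, co1, el2, co2, combo_zero]; rfl)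
    (fun a b _ _ ha hb => by
      rw [co1_xor, el1_xor, co2_xor, el2_xor]
      conv_rhs => rw [← ha, ← hb]
      ac_rfl)
    fun j hj => (half_checks.2.2.2.2.1 j hj).2

theorem co_el : ∀ m < 4096, co1 (el1 m) = m ∧ co2 (el2 m) = m ∧ co1 (el2 m) = 0 ∧ co2 (el1 m) = 0 :=
  Cfsg.Lib.CoOneLocal.xor_all 12 (by simp only [el1, co1, el2, co2, combo_zero]; exact ⟨trivial, trivial, trivial, trivial⟩)
    (fun a b _ _ ha hb => by
      simp only [el1_xor, el2_xor, co1_xor, co2_xor, ha, hb, Nat.xor_self, and_self])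
    fun i hi => half_checks.2.2.2.2.2 i hi

theorem el1_inj {a b : ℕ} (ha : a < 4096) (hb : b < 4096) (h : el1 a = el1 b) : a = b := by
  rw [← (co_el a ha).1, h, (co_el b hb).1]

/-- The element of order seven. -/
noncomputable def yS : Spor.Co1 := wEl sevLetters (sevWords.getD 0 [])

/-- A generator. -/
noncomputable def gS (k : ℕ) : Spor.Co1 := wEl sevLetters (sevWords.getD k [])

theorem qImgs_gS {k : ℕ} (hk : k < 6) : qImgs (gS k) = gTab k := by
  have h := List.all_eq_true.1 sev_words k (List.mem_range.2 hk)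
  simp only [Bool.and_eq_true, beq_iff_eq] at h
  rw [gS, qImgs_wEl sev_tab _ h.1]
  exact h.2

theorem fact_yS {c : ℕ} (hc : c < 2 ^ 24) : fact yS c = yC c := by
  rw [fact_eq_combo _ hc, show qImgs yS = gTab 0 from qImgs_gS (by norm_num)]
  rfl

theorem yC_lt {c : ℕ} (hc : c < 2 ^ 24) : yC c < 2 ^ 24 := fact_yS hc ▸ fact_lt _ hc

/-- The centralizer. -/
noncomputable def cY : Subgroup Spor.Co1 := Subgroup.centralizer {yS}

theorem gS_mem {k : ℕ} (hk : k < 6) : gS k ∈ cY := by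
  refine Subgroup.mem_centralizer_singleton_iff.2 (eq_of_qImgs ?_)
  rw [qImgs_mul, qImgs_mul, qImgs_gS hk, show qImgs yS = gTab 0 from qImgs_gS (by norm_num)]
  have h := List.all_eq_true.1 gen_checks k (List.mem_range.2 hk)
  simp only [Bool.and_eq_true, beq_iff_eq] at h
  exact h.1.1

theorem fact_yC {g : Spor.Co1} (hg : g ∈ cY) {c : ℕ} (hc : c < 2 ^ 24) : fact g (yC c) = yC (fact g c) := by
  rw [← fact_yS hc, ← fact_mul _ _ hc, ← fact_yS (fact_lt g hc), ← fact_mul _ _ hc,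
    Subgroup.mem_centralizer_singleton_iff.1 hg]

theorem fact_proj1 {g : Spor.Co1} (hg : g ∈ cY) {c : ℕ} (hc : c < 2 ^ 24) :
    el1 (co1 (fact g c)) = fact g (el1 (co1 c)) := by
  have h1 := yC_lt hc
  have h2 := yC_lt h1
  have h3 := yC_lt h2
  rw [proj1_eq _ (fact_lt g hc), proj1_eq c hc, fact_xor, fact_xor, fact_xor, fact_yC hg h3, fact_yC hg h2,
    fact_yC hg h1, fact_yC hg hc]

/-- The action on the coordinates of the first half. -/
noncomputable def pi1 (g : Spor.Co1) (m : ℕ) : ℕ := co1 (fact g (el1 m))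

/-- The action on the coordinates of the second half. -/
noncomputable def pi2 (g : Spor.Co1) (m : ℕ) : ℕ := co2 (fact g (el2 m))

theorem pi1_lt (g : Spor.Co1) (m : ℕ) : pi1 g m < 4096 := co1_lt _

theorem pi2_lt (g : Spor.Co1) (m : ℕ) : pi2 g m < 4096 := co2_lt _

theorem el_pi1 {g : Spor.Co1} (hg : g ∈ cY) {m : ℕ} (hm : m < 4096) : el1 (pi1 g m) = fact g (el1 m) := by
  rw [pi1, fact_proj1 hg (el1_lt m), (co_el m hm).1]

theorem el_pi2 {g : Spor.Co1} (hg : g ∈ cY) {m : ℕ} (hm : m < 4096) : el2 (pi2 g m) = fact g (el2 m) := by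
  have h1 := split_eq _ (fact_lt g (el2_lt m))
  rw [fact_proj1 hg (el2_lt m), (co_el m hm).2.2.1] at h1
  rw [el1, combo_zero, fact_zero, Nat.zero_xor] at h1
  exact h1

theorem pi1_mul {g h : Spor.Co1} (hh : h ∈ cY) {m : ℕ} (hm : m < 4096) : pi1 (g * h) m = pi1 g (pi1 h m) := by
  rw [pi1, pi1, el_pi1 hh hm, fact_mul _ _ (el1_lt m)]

theorem pi1_one {m : ℕ} (hm : m < 4096) : pi1 1 m = m := by
  rw [pi1, fact_one (el1_lt m), (co_el m hm).1]

theorem pi1_xor (g : Spor.Co1) (a b : ℕ) : pi1 g (a ^^^ b) = pi1 g a ^^^ pi1 g b := by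
  rw [pi1, el1_xor, fact_xor, co1_xor]; rfl

theorem pi1_zero (g : Spor.Co1) : pi1 g 0 = 0 := by
  rw [pi1, el1, combo_zero, fact_zero, co1, combo_zero]

theorem pi1_inj {g : Spor.Co1} (hg : g ∈ cY) {a b : ℕ} (ha : a < 4096) (hb : b < 4096)
    (h : pi1 g a = pi1 g b) : a = b := by
  have := congrArg (pi1 g⁻¹) h
  rwa [← pi1_mul hg ha, ← pi1_mul hg hb, inv_mul_cancel, pi1_one ha, pi1_one hb] at this

theorem pi1_combo (g : Spor.Co1) : ∀ (L : List ℕ) (c : ℕ), pi1 g (comboAux L c) = comboAux (L.map (pi1 g)) c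
  | [], c => pi1_zero g
  | b :: L, c => by
    rw [comboAux, pi1_xor, pi1_combo g L, List.map_cons, comboAux]
    cases c % 2 == 1
    · rw [show pi1 g (bif false then b else 0) = 0 from pi1_zero g]; rfl
    · rfl

theorem pi1_gS {k : ℕ} (hk : k < 6) : ∀ m < 4096, pi1 (gS k) m = comboAux (hTab k) m := by
  have h := List.all_eq_true.1 gen_checks k (List.mem_range.2 hk)
  simp only [Bool.and_eq_true, List.all_eq_true, List.mem_range, Nat.beq_eq] at h
  refine Cfsg.Lib.CoOneLocal.xor_all 12 (by rw [pi1_zero, combo_zero])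
    (fun a b _ _ ha hb => by rw [pi1_xor, comboAux_xor, ha, hb]) fun i hi => ?_
  rw [pi1, fact_eq_combo _ (el1_lt _), qImgs_gS hk, h.2 i hi,
    (co_el _ (combo_lt (n := 12) _ (fun b hb => Nat.le_of_ble_eq_true (h.1.2 b hb)) _)).1]

theorem pi1_yS {m : ℕ} (hm : m < 4096) : pi1 yS m = comboAux (hTab 0) m := pi1_gS (k := 0) (by norm_num) m hm

theorem pi1_yS_comm {g : Spor.Co1} (hg : g ∈ cY) {m : ℕ} (hm : m < 4096) :
    pi1 g (comboAux (hTab 0) m) = comboAux (hTab 0) (pi1 g m) := by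
  have hy : yS ∈ cY := gS_mem (k := 0) (by norm_num)
  rw [← pi1_yS hm, ← pi1_mul hy hm, Subgroup.mem_centralizer_singleton_iff.1 hg, pi1_mul hg hm,
    pi1_yS (pi1_lt g m)]

theorem pi1_b3 {g : Spor.Co1} (hg : g ∈ cY) : ∀ L : List ℕ, (∀ a ∈ L, a < 4096) →
    (b3 L).map (pi1 g) = b3 (L.map (pi1 g))
  | [], _ => rfl
  | a :: L, h => by
    have ha := h a List.mem_cons_self
    have hy1 : comboAux (hTab 0) a < 4096 := pi1_yS ha ▸ pi1_lt _ _
    simp only [b3, List.flatMap_cons, List.map_append, List.map_cons, List.map_nil]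
    rw [pi1_yS_comm hg hy1, pi1_yS_comm hg ha]
    congr 1
    exact pi1_b3 hg L fun x hx => h x (List.mem_cons_of_mem _ hx)

end Cfsg.Lib.CoOneUniq.Local
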