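import Cfsg.Agent.Lib.Extra.CoOneUniq.Local.SevHalf
import Cfsg.Agent.Lib.PresSymAlt.Carmichael

/-!
# Seven times the alternating group of degree seven inside the first Conway group
-/

set_option autoImplicit false
set_option maxRecDepth 100000

namespace Cfsg.Lib.CoOneUniq.Local

open Cfsg Cfsg.Lib.Concrete Cfsg.Lib.CoOne

theorem sev_rels :
    mulI (gTab 0) (mulI (gTab 0) (mulI (gTab 0) (mulI (gTab 0) (mulI (gTab 0) (mulI (gTab 0) (gTab 0)))))) =
      bits24.map (2 ^ ·) ∧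
    ((List.range 5).all fun i => mulI (gTab (i + 1)) (mulI (gTab (i + 1)) (gTab (i + 1))) == bits24.map (2 ^ ·)) = true ∧
    ((List.range 5).all fun i => (List.range 5).all fun j => Nat.beq i j ||
      (mulI (mulI (gTab (i + 1)) (gTab (j + 1))) (mulI (gTab (i + 1)) (gTab (j + 1))) == bits24.map (2 ^ ·))) = true ∧
    gTab 0 ≠ bits24.map (2 ^ ·) ∧ gTab 1 ≠ bits24.map (2 ^ ·) := by decide +kernel

/-- A three-cycle. -/
noncomputable def tS (i : Fin 5) : Spor.Co1 := gS (i.val + 1)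

theorem qImgs_yS : qImgs yS = gTab 0 := qImgs_gS (by norm_num)

theorem qImgs_tS (i : Fin 5) : qImgs (tS i) = gTab (i.val + 1) := qImgs_gS (by omega)

theorem yS_pow : yS ^ 7 = 1 := by
  refine eq_of_qImgs ?_
  simp only [pow_succ', pow_zero, mul_one, qImgs_mul, qImgs_yS, qImgs_one]
  exact sev_rels.1

theorem yS_ne : yS ≠ 1 := fun e => sev_rels.2.2.2.1 (by rw [← qImgs_yS, e, qImgs_one])

theorem tS_ne : tS 0 ≠ 1 := fun e => sev_rels.2.2.2.2 (by
  rw [← show qImgs (tS 0) = gTab 1 from qImgs_tS 0, e, qImgs_one])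

theorem carRel_tS : Cfsg.Lib.PresSymAlt.CarRel tS := by
  refine ⟨fun i => eq_of_qImgs ?_, fun i j hij => eq_of_qImgs ?_⟩
  · rw [pow_three, qImgs_mul, qImgs_mul, qImgs_tS, qImgs_one]
    exact beq_iff_eq.1 (List.all_eq_true.1 sev_rels.2.1 i.val (List.mem_range.2 i.isLt))
  · have h := List.all_eq_true.1 (List.all_eq_true.1 sev_rels.2.2.1 i.val (List.mem_range.2 i.isLt)) j.val
      (List.mem_range.2 j.isLt)
    rw [Bool.or_eq_true, Nat.beq_eq, beq_iff_eq] at h
    rw [pow_two, qImgs_mul, qImgs_mul, qImgs_tS, qImgs_tS, qImgs_one]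
    exact h.resolve_left fun e => hij (Fin.ext e)

theorem tS_mem (i : Fin 5) : tS i ∈ cY := gS_mem (by omega)

end Cfsg.Lib.CoOneUniq.Local
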