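import Cfsg.Agent.Lib.Extra.CoOneUniq.Local.Word
import Cfsg.Agent.Lib.Extra.CoOneUniq.Local.SevData

/-!
# The table of the letters for the element of order seven
-/

set_option autoImplicit false
set_option maxRecDepth 100000
set_option Elab.async false

namespace Cfsg.Lib.CoOneUniq.Local

open Cfsg Cfsg.Lib.Concrete Cfsg.Lib.CoOne

theorem sev_len : sevLetters.length = 35 ∧ sevTab.getD 0 [] = xiImgs := by decide +kernel

theorem sev_tab0 : (List.range' 0 7).all (tabAt sevLetters sevTab) = true := by decide +kernel

theorem sev_tab1 : (List.range' 7 7).all (tabAt sevLetters sevTab) = true := by decide +kernel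

theorem sev_tab2 : (List.range' 14 7).all (tabAt sevLetters sevTab) = true := by decide +kernel

theorem sev_tab3 : (List.range' 21 7).all (tabAt sevLetters sevTab) = true := by decide +kernel

theorem sev_tab4 : (List.range' 28 7).all (tabAt sevLetters sevTab) = true := by decide +kernel

theorem sev_tab : tabOK sevLetters sevTab = true := by
  simp only [tabOK, Bool.and_eq_true, beq_iff_eq, List.all_eq_true, List.mem_range, sev_len, true_and]
  intro k hk
  have h : ∃ i < 5, 7 * i ≤ k ∧ k < 7 * i + 7 := ⟨k / 7, by omega, by omega, by omega⟩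
  obtain ⟨i, hi, h1, h2⟩ := h
  have hm : k ∈ List.range' (7 * i) 7 := List.mem_range'_1.2 ⟨h1, h2⟩
  interval_cases i
  exacts [List.all_eq_true.1 sev_tab0 k hm, List.all_eq_true.1 sev_tab1 k hm, List.all_eq_true.1 sev_tab2 k hm, List.all_eq_true.1 sev_tab3 k hm, List.all_eq_true.1 sev_tab4 k hm]

theorem sev_words : (List.range 6).all (fun k => wOK sevLetters (sevWords.getD k []) &&
    (wImgs sevTab (sevWords.getD k []) == sevGenTab.getD k [])) = true := by decide +kernel

theorem sev_root_words : (List.range 3).all (fun k => wOK sevLetters (sevRootW.getD k []) &&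
    wOK sevLetters (sevRootWi.getD k []) && (wImgs sevTab (sevRootWi.getD k []) == sevRootTab.getD k []) &&
    (wImgs sevTab (sevRootW.getD k [] ++ sevRootWi.getD k []) == bits24.map (2 ^ ·)) &&
    Nat.beq (comboAux (wImgs sevTab (sevRootW.getD k [])) topCode) (comboAux sevBas1 (sevRoots.getD k 0))) = true := by
  decide +kernel

end Cfsg.Lib.CoOneUniq.Local
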