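import Cfsg.Agent.Lib.Extra.CoOneUniq.Local.SevHom
import Cfsg.Agent.Lib.Extra.CoOneUniq.Local.SevBound

/-!
# A subgroup of order seven of the first Conway group with centralizer `7 × A₇`
-/

set_option autoImplicit false
set_option maxRecDepth 100000
set_option linter.style.haveILetI false

namespace Cfsg.Lib.CoOneUniq.Local

open Cfsg Cfsg.Lib.Concrete Cfsg.Lib.CoOne

/-- Seven points. -/
abbrev Seven := Fin 5 ⊕ Bool

theorem seven_card : Fintype.card Seven = 7 := by simp

theorem exists_seven : ∃ V : Subgroup Spor.Co1, Nat.card V = 7 ∧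
    Nonempty (↥(Subgroup.centralizer (V : Set Spor.Co1)) ≃* Multiplicative (ZMod 7) × alternatingGroup (Fin 7)) := by
  classical
  haveI : Finite Co0 := finite_Co0
  haveI : Fact (Nat.Prime 7) := ⟨by norm_num⟩
  obtain ⟨ψ, hψ, hr⟩ := Cfsg.Lib.PresSymAlt.carmichael carRel_tS
  haveI : Nontrivial Seven := ⟨⟨.inr false, .inr true, by simp⟩⟩
  haveI : IsSimpleGroup ↥(alternatingGroup Seven) := alternatingGroup.isSimpleGroup (by simp)
  have hψinj : Function.Injective ψ := by
    rw [← MonoidHom.ker_eq_bot_iff]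
    refine ψ.normal_ker.eq_bot_or_eq_top.resolve_right fun h => tS_ne ?_
    rw [← hψ 0]
    exact MonoidHom.mem_ker.1 (h ▸ Subgroup.mem_top _)
  have hle : ψ.range ≤ cY := hr.trans ((Subgroup.closure_le _).2 (by rintro _ ⟨i, rfl⟩; exact tS_mem i))
  have hcom : ∀ d ∈ Subgroup.zpowers yS, ∀ a, Commute d (ψ a) := fun d hd a => by
    obtain ⟨k, rfl⟩ := Subgroup.mem_zpowers_iff.1 hd
    have h : Commute (ψ a) yS := Subgroup.mem_centralizer_singleton_iff.1 (hle ⟨a, rfl⟩)
    exact h.symm.zpow_left k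
  have hord : orderOf yS = 7 := orderOf_eq_prime yS_pow yS_ne
  let φ : ↥(Subgroup.zpowers yS) × ↥(alternatingGroup Seven) →* Spor.Co1 :=
    MonoidHom.noncommCoprod (Subgroup.zpowers yS).subtype ψ (fun d a => hcom d d.2 a)
  have hφ : ∀ d a, φ (d, a) = (d : Spor.Co1) * ψ a := fun d a => rfl
  have hφinj : Function.Injective φ := by
    rw [← MonoidHom.ker_eq_bot_iff, Subgroup.eq_bot_iff_forall]
    rintro ⟨d, a⟩ h
    rw [MonoidHom.mem_ker, hφ] at h
    have ha : a ∈ Subgroup.center ↥(alternatingGroup Seven) := Subgroup.mem_center_iff.2 fun b => hψinj (by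
      rw [map_mul, map_mul, eq_inv_of_mul_eq_one_right h]
      exact ((hcom d d.2 b).inv_left.symm).eq)
    have hcen : Subgroup.center ↥(alternatingGroup Seven) = ⊥ :=
      (inferInstance : (Subgroup.center ↥(alternatingGroup Seven)).Normal).eq_bot_or_eq_top.resolve_right fun e => by
        have h01 := Subgroup.mem_center_iff.1 (e ▸ Subgroup.mem_top
          (⟨Cfsg.Lib.PresSymAlt.tri (0 : Fin 5), Cfsg.Lib.PresSymAlt.tri_mem _⟩ : ↥(alternatingGroup Seven)))
          ⟨Cfsg.Lib.PresSymAlt.tri (1 : Fin 5), Cfsg.Lib.PresSymAlt.tri_mem _⟩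
        revert h01
        decide
    rw [hcen, Subgroup.mem_bot] at ha
    subst ha
    rw [map_one, mul_one] at h
    exact Prod.ext (Subtype.ext h) rfl
  have hφle : φ.range ≤ cY := by
    rintro _ ⟨⟨d, a⟩, rfl⟩
    refine mul_mem (s := cY) ?_ (hle ⟨a, rfl⟩)
    exact (Subgroup.zpowers_le.2 (gS_mem (k := 0) (by norm_num))) d.2
  have hcard : Nat.card (↥(Subgroup.zpowers yS) × ↥(alternatingGroup Seven)) = 17640 := by
    have h2 := two_mul_card_alternatingGroup (α := Seven)
    rw [Fintype.card_perm, seven_card, show Nat.factorial 7 = 5040 by rfl] at h2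
    rw [Nat.card_prod, Nat.card_zpowers, hord, Nat.card_eq_fintype_card]
    omega
  have heq : φ.range = cY := by
    refine Subgroup.eq_of_le_of_card_ge hφle ?_
    rw [Nat.card_congr (MonoidHom.ofInjective hφinj).toEquiv.symm, hcard]
    exact card_cY_le
  have hV : Subgroup.centralizer (Subgroup.zpowers yS : Set Spor.Co1) = cY := by
    ext g
    rw [cY, Subgroup.mem_centralizer_iff, Subgroup.mem_centralizer_singleton_iff]
    constructor
    · intro h; exact (h yS (Subgroup.mem_zpowers yS)).symm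
    · intro h d hd
      obtain ⟨k, rfl⟩ := Subgroup.mem_zpowers_iff.1 hd
      exact ((show Commute g yS from h).zpow_right k).eq.symm
  refine ⟨Subgroup.zpowers yS, by rw [Nat.card_zpowers, hord], ⟨?_⟩⟩
  exact (MulEquiv.subgroupCongr (hV.trans heq.symm)).trans ((MonoidHom.ofInjective hφinj).symm.trans
    ((mulEquivOfPrimeCardEq (p := 7) (by rw [Nat.card_zpowers, hord])
      (by rw [Nat.card_eq_fintype_card, Fintype.card_multiplicative, ZMod.card])).prodCongr
      (Equiv.altCongrHom (Fintype.equivFinOfCardEq seven_card))))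

end Cfsg.Lib.CoOneUniq.Local
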