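import Cfsg.Agent.Lib.Extra.CoOneUniq.Local.Faithful

/-!
# Words in monomial letters and the element of the sextet, evaluated on classes

The letter `0` is the element of the sextet, the letter `k + 1` is the `k`-th monomial letter.
-/

set_option autoImplicit false
set_option maxRecDepth 100000

namespace Cfsg.Lib.CoOneUniq.Local

open Cfsg Cfsg.Lib.Concrete Cfsg.Lib.CoOne

theorem bits24_getD' : ∀ i < 24, bits24.getD i 0 = i := by decide

variable (M : List (ℕ × ℕ × ℕ)) (T : List (List ℕ))

/-- The element of a letter. -/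
noncomputable def lEl : ℕ → Spor.Co1
  | 0 => xiEl
  | k + 1 => monoEl (M.getD k (0, 0, 0)).1 (M.getD k (0, 0, 0)).2.1 (M.getD k (0, 0, 0)).2.2

/-- The element of a word. -/
noncomputable def wEl (w : List ℕ) : Spor.Co1 := (w.map (lEl M)).prod

/-- The images of the basis classes under a word. -/
def wImgs : List ℕ → List ℕ
  | [] => bits24.map (2 ^ ·)
  | l :: w => (wImgs w).map (comboAux (T.getD l []))

/-- The check of one letter. -/
def tabAt (k : ℕ) : Bool :=
    okMono (M.getD k (0, 0, 0)).1 (M.getD k (0, 0, 0)).2.1 (M.getD k (0, 0, 0)).2.2 &&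
      (T.getD (k + 1) [] == monoImgs (M.getD k (0, 0, 0)).2.1 (M.getD k (0, 0, 0)).2.2)

/-- The check of a table against the letters. -/
def tabOK : Bool :=
  (T.getD 0 [] == xiImgs) && (List.range M.length).all (tabAt M T)

/-- A word uses valid letters only. -/
def wOK (w : List ℕ) : Bool := w.all fun l => Nat.ble l M.length

variable {M T}

theorem fact_lEl (h : tabOK M T = true) {l : ℕ} (hl : l ≤ M.length) (c : ℕ) :
    fact (lEl M l) c = comboAux (T.getD l []) c := by
  simp only [tabOK, tabAt, Bool.and_eq_true, List.all_eq_true, List.mem_range, beq_iff_eq] at h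
  cases l with
  | zero => rw [h.1]; exact fact_xiEl c
  | succ k =>
    obtain ⟨h1, h2⟩ := h.2 k hl
    rw [h2]; exact fact_monoEl h1 c

theorem qImgs_wEl (h : tabOK M T = true) : ∀ w : List ℕ, wOK M w = true → qImgs (wEl M w) = wImgs T w
  | [], _ => List.map_congr_left fun j hj => fact_one (Nat.pow_lt_pow_right (by norm_num) (mem_bits24.1 hj))
  | l :: w, hw => by
    rw [wOK, List.all_cons, Bool.and_eq_true, Nat.ble_eq] at hw
    rw [wImgs, ← qImgs_wEl h w hw.2, qImgs, qImgs, List.map_map]
    refine List.map_congr_left fun j hj => ?_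
    have hj' : 2 ^ j < 2 ^ 24 := Nat.pow_lt_pow_right (by norm_num) (mem_bits24.1 hj)
    rw [Function.comp_apply, ← fact_lEl h hw.1, ← fact_mul _ _ hj']
    rfl

theorem wEl_append (v w : List ℕ) : wEl M (v ++ w) = wEl M v * wEl M w := by
  rw [wEl, wEl, wEl, List.map_append, List.prod_append]

theorem wEl_nil : wEl M [] = 1 := rfl

/-- The repeated word. -/
def wPow (w : List ℕ) (n : ℕ) : List ℕ := (List.replicate n w).flatten

theorem wEl_wPow (w : List ℕ) : ∀ n, wEl M (wPow w n) = wEl M w ^ n
  | 0 => (pow_zero _).symm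
  | n + 1 => by
    rw [wPow, List.replicate_succ, List.flatten_cons, wEl_append, pow_succ', ← wEl_wPow w n]
    rfl

theorem combo_zero (L : List ℕ) : comboAux L 0 = 0 := by
  have h := comboAux_xor L 0 0
  rwa [Nat.xor_self, Nat.xor_self] at h

theorem fact_eq_combo (q : Spor.Co1) {c : ℕ} (hc : c < 2 ^ 24) : fact q c = comboAux (qImgs q) c := by
  refine Cfsg.Lib.CoOneLocal.xor_all 24 (P := fun c => fact q c = comboAux (qImgs q) c) ?_
    (fun a b _ _ ha hb => by rw [fact_xor, comboAux_xor, ha, hb]) (fun j hj => ?_) c hc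
  · rw [fact_zero, combo_zero]
  · have hs : ∀ (L : List ℕ) (j : ℕ), comboAux L (2 ^ j) = L.getD j 0 := by
      intro L
      induction L with
      | nil => intro j; rfl
      | cons b L ih =>
        intro j
        cases j with
        | zero =>
          rw [comboAux, pow_zero, show (1 : ℕ) / 2 = 0 from rfl, combo_zero]
          simp
        | succ j =>
          rw [comboAux, show (2 : ℕ) ^ (j + 1) / 2 = 2 ^ j by rw [pow_succ]; omega, ih,
            show (2 : ℕ) ^ (j + 1) % 2 = 0 by rw [pow_succ]; omega, List.getD_cons_succ]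
          exact Nat.zero_xor _
    rw [hs, qImgs, List.getD_eq_getElem _ _ (by simpa [bits24] using hj), List.getElem_map,
      ← List.getD_eq_getElem _ 0, bits24_getD' _ hj]

/-- The product of two tables. -/
def mulI (A B : List ℕ) : List ℕ := B.map (comboAux A)

theorem qImgs_mul (q r : Spor.Co1) : qImgs (q * r) = mulI (qImgs q) (qImgs r) := by
  conv_rhs => rw [mulI, show qImgs r = bits24.map (fun j => fact r (2 ^ j)) from rfl, List.map_map]
  refine List.map_congr_left fun j hj => ?_
  have hj' : 2 ^ j < 2 ^ 24 := Nat.pow_lt_pow_right (by norm_num) (mem_bits24.1 hj)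
  rw [fact_mul _ _ hj', fact_eq_combo _ (fact_lt _ hj')]
  rfl

theorem qImgs_one : qImgs (1 : Spor.Co1) = bits24.map (2 ^ ·) :=
  List.map_congr_left fun j hj => fact_one (Nat.pow_lt_pow_right (by norm_num) (mem_bits24.1 hj))

/-- Equality of two words decided on classes. -/
theorem wEl_eq (h : tabOK M T = true) {v w : List ℕ}
    (e : (wOK M v && wOK M w && (wImgs T v == wImgs T w)) = true) : wEl M v = wEl M w := by
  simp only [Bool.and_eq_true, beq_iff_eq] at e
  exact eq_of_qImgs (by rw [qImgs_wEl h v e.1.1, qImgs_wEl h w e.1.2, e.2])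

end Cfsg.Lib.CoOneUniq.Local
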